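import Groth.Agent.SekSuwaLib.GLamTorsor
import Groth.Agent.BalLib.Push
import Groth.Agent.AlgSpLib.Descends2

/-!
# Sections of torsors under `G^(λ)` when units lift and the Picard group is trivial
-/

set_option autoImplicit false
set_option backward.isDefEq.respectTransparency false
set_option backward.isDefEq.respectTransparency.types false
set_option linter.style.haveILetI false
universe u

open CategoryTheory CategoryTheory.Limits MonoidalCategory CartesianMonoidalCategory MonObj GrpObj AlgebraicGeometry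
open Groth.Agent.BalLib

noncomputable section

namespace Groth.Agent.SekSuwaLib.GLamSection

open Groth.Agent.CechTorsorX.ZariskiTriv (sp sh)

variable {R : Type u} [CommRing R] {X : Scheme.{u}} (f : X ⟶ Spec (CommRingCat.of R))

/-- The generator of the coordinate ring of the multiplicative group. -/
abbrev gen (R : Type u) [CommRing R] : MonoidAlgebra R (Multiplicative ℤ) :=
  MonoidAlgebra.of R (Multiplicative ℤ) (Multiplicative.ofAdd 1)

/-- The coordinate of a point of the multiplicative group. -/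
def uCoord {V : Over X} (x : V ⟶ Red.bc f (Red.diag R ℤ)) : Γ(V.left, ⊤) :=
  ptRingHom (((Over.mapPullbackAdj f).homEquiv V (Red.diag R ℤ)).symm x) (gen R)

theorem uCoord_comp {V V' : Over X} (v : V' ⟶ V) (x : V ⟶ Red.bc f (Red.diag R ℤ)) :
    uCoord f (v ≫ x) = v.left.appTop (uCoord f x) := by
  rw [uCoord, Adjunction.homEquiv_naturality_left_symm, ptRingHom_comp_left]
  rfl

theorem isUnit_uCoord {V : Over X} (x : V ⟶ Red.bc f (Red.diag R ℤ)) : IsUnit (uCoord f x) :=
  ((Group.isUnit _).map (MonoidAlgebra.of R (Multiplicative ℤ))).map _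

theorem uCoord_mul {V : Over X} (x y : V ⟶ Red.bc f (Red.diag R ℤ)) :
    uCoord f (x * y) = uCoord f x * uCoord f y := by
  obtain ⟨a, rfl⟩ := ((Over.mapPullbackAdj f).homEquiv V (Red.diag R ℤ)).surjective x
  obtain ⟨b, rfl⟩ := ((Over.mapPullbackAdj f).homEquiv V (Red.diag R ℤ)).surjective y
  have h := ptRingHom_mul_of_isGroupLike a b (MonoidAlgebra.isGroupLikeElem_of (R := R) (A := R) (Multiplicative.ofAdd (1 : ℤ)))
  simp only [uCoord, ← AlgGrp.Action.homEquiv_mul, Equiv.symm_apply_apply]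
  exact h

theorem uCoord_injective {V : Over X} {x y : V ⟶ Red.bc f (Red.diag R ℤ)} (h : uCoord f x = uCoord f y) : x = y := by
  refine ((Over.mapPullbackAdj f).homEquiv V (Red.diag R ℤ)).symm.injective (ptRingHom_injective ?_)
  let T := (Over.map f).obj V
  letI := algΓ T
  let a := ((Over.mapPullbackAdj f).homEquiv V (Red.diag R ℤ)).symm x
  let b := ((Over.mapPullbackAdj f).homEquiv V (Red.diag R ℤ)).symm y
  let φ : MonoidAlgebra R (Multiplicative ℤ) →ₐ[R] Γ(T.left, ⊤) :=
    { ptRingHom a with commutes' := ptRingHom_algebraMap a }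
  let ψ : MonoidAlgebra R (Multiplicative ℤ) →ₐ[R] Γ(T.left, ⊤) :=
    { ptRingHom b with commutes' := ptRingHom_algebraMap b }
  exact congrArg AlgHom.toRingHom
    ((MonoidAlgebra.lift R Γ(T.left, ⊤) (Multiplicative ℤ)).symm.injective
      (show (MonoidAlgebra.lift R Γ(T.left, ⊤) (Multiplicative ℤ)).symm φ =
        (MonoidAlgebra.lift R Γ(T.left, ⊤) (Multiplicative ℤ)).symm ψ from MonoidHom.ext_mint h))

theorem exists_uCoord {V : Over X} (u : Γ(V.left, ⊤)ˣ) : ∃ x : V ⟶ Red.bc f (Red.diag R ℤ), uCoord f x = u := by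
  let T := (Over.map f).obj V
  letI := algΓ T
  let φ : MonoidAlgebra R (Multiplicative ℤ) →ₐ[R] Γ(T.left, ⊤) :=
    MonoidAlgebra.lift R Γ(T.left, ⊤) (Multiplicative ℤ) ((Units.coeHom _).comp (zpowersHom _ u))
  refine ⟨(Over.mapPullbackAdj f).homEquiv V _ (ofRingHom φ.toRingHom fun r => φ.commutes r), ?_⟩
  rw [uCoord, Equiv.symm_apply_apply, ptRingHom_ofRingHom]
  exact (MonoidAlgebra.lift_of (R := R) (A := Γ(T.left, ⊤)) _ _).trans (by simp)

variable {lam : R}

theorem uCoord_alpha {V : Over X} (x : V ⟶ Red.bc f (SekSuwa.G R lam)) :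
    uCoord f (x ≫ (Over.pullback f).map (SekSuwa.alpha R lam)) = 1 + lamOn f lam V * tCoord f x := by
  rw [uCoord, Adjunction.homEquiv_naturality_right_symm, SekSuwa.alpha, ptRingHom_comp_specHom,
    show SekSuwa.alphaHom R lam (gen R) = SekSuwa.A.u from SekSuwa.alphaHom_single_one R lam, ptRingHom_u]
  rfl

theorem tCoord_one [IsDomain R] (hlam : lam ≠ 0) {V : Over X} [Flat (V.hom ≫ f)] :
    tCoord f (1 : V ⟶ Red.bc f (SekSuwa.G R lam)) = 0 := by
  have h := coord_mul f (1 : V ⟶ Red.bc f (SekSuwa.G R lam)) 1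
  rw [_root_.mul_one] at h
  have h1 := (isUnit_coord f (1 : V ⟶ Red.bc f (SekSuwa.G R lam))).mul_left_cancel (h.symm.trans (_root_.mul_one _).symm)
  refine eq_zero_of_lamOn_mul f hlam ?_
  linear_combination h1

omit f in
/-- A section of the pushed torsor gives an equivariant map to the bigger group. -/
theorem exists_equivariant {G K P : Over X} [GrpObj G] [GrpObj K] [IsAffineHom G.hom] [IsAffineHom K.hom]
    (α : G ⟶ K) [IsMonHom α] (a : AlgGrp.Action G P) (hP : NonAbH1.IsTorsorFor Scheme.fppfPrecoverage a)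
    (hflatG : Flat G.hom)
    (hpic : ∀ (Q : Over X) (b : AlgGrp.Action K Q),
      NonAbH1.IsTorsorFor Scheme.fppfPrecoverage b → NonAbH1.HasSectionOver Q (𝟙 X)) :
    ∃ γ : P ⟶ K, ∀ (W : Over X) (h : W ⟶ G) (p : W ⟶ P), ((lift h p ≫ a.act) ≫ γ) * (h ≫ α) = p ≫ γ := by
  have hPf : NonAbH1.IsTorsorFor Scheme.fpqcPrecoverage a :=
    ⟨hP.1, hP.2.choose, Scheme.fppfPrecoverage_le_fpqcPrecoverage _ hP.2.choose_spec.1, hP.2.choose_spec.2⟩
  let π : P ⟶ 𝟙_ (Over X) := toUnit P
  have eπ : π.left = P.hom := (Category.comp_id _).symm.trans (Over.w π)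
  haveI : Surjective π.left := by rw [eπ]; exact Groth.Agent.SchTorsor.surjective_hom hPf
  haveI : Flat π.left := by rw [eπ]; exact Groth.Agent.SchTorsor.torsor_property @Flat hPf hflatG
  haveI : QuasiCompact π.left := by
    rw [eπ]
    exact Groth.Agent.SchTorsor.torsor_property @QuasiCompact hPf (inferInstance : QuasiCompact G.hom)
  have cart : IsPullback a.act (snd G P) π π := isPullback_of_points (toUnit_unique _ _) fun T x y _ => by
    obtain ⟨g, hg⟩ := Groth.Agent.SchTorsor.exists_div hP.1 x y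
    refine ⟨lift g y, ⟨hg, lift_snd _ _⟩, ?_⟩
    rintro q ⟨h1, h2⟩
    rw [lift_fst_snd_self q, h2] at h1 ⊢
    rw [Groth.Agent.SchTorsor.act_free hP.1 (h1.trans hg.symm)]
  have hπ : HasLocSec π := hasLocSec_of_isLocallyTrivialFor π (by rw [eπ]; exact hP.2)
  obtain ⟨Q, q, r, aQ, -, sq, cartQ, hinv, -⟩ := exists_push α cart hπ
  -- the pushed torsor has a section
  obtain ⟨s, hs⟩ := hpic Q aQ ⟨by
      refine ⟨cartQ.lift (fst Q Q) (snd Q Q) (toUnit_unique _ _), ?_, ?_⟩
      · refine cartQ.hom_ext ?_ ?_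
        · rw [Category.assoc, cartQ.lift_fst, lift_fst, Category.id_comp]
        · rw [Category.assoc, cartQ.lift_snd, lift_snd, Category.id_comp]
      · refine CartesianMonoidalCategory.hom_ext _ _ ?_ ?_
        · rw [Category.assoc, lift_fst, cartQ.lift_fst, Category.id_comp]
        · rw [Category.assoc, lift_snd, cartQ.lift_snd, Category.id_comp], by
      obtain ⟨Rc, hRc, hsec⟩ := hP.2
      refine ⟨Rc, hRc, fun S' g hg => ?_⟩
      obtain ⟨t, ht⟩ := hsec g hg
      exact ⟨t ≫ (lift (𝟙 P) (1 : P ⟶ K) ≫ q).left, by rw [Category.assoc, Over.w, ht]⟩⟩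
  let s₀ : 𝟙_ (Over X) ⟶ Q := Over.homMk s hs
  let e : P ⟶ P ⊗ K := sq.lift (π ≫ s₀) (𝟙 P) (toUnit_unique _ _)
  have he₁ : e ≫ q = π ≫ s₀ := sq.lift_fst _ _ _
  have he₂ : e ≫ fst P K = 𝟙 P := sq.lift_snd _ _ _
  have hγ : ∀ (W : Over X) (p : W ⟶ P), lift p (p ≫ e ≫ snd P K) ≫ q = toUnit W ≫ s₀ := fun W p => by
    rw [show lift p (p ≫ e ≫ snd P K) = p ≫ e from CartesianMonoidalCategory.hom_ext _ _
        (by rw [lift_fst, Category.assoc, he₂, Category.comp_id]) (by rw [lift_snd, Category.assoc]),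
      Category.assoc, he₁, ← Category.assoc, toUnit_unique (p ≫ π) (toUnit W)]
  refine ⟨e ≫ snd P K, fun W h p => ?_⟩
  have e1 : lift (lift h p ≫ a.act) ((p ≫ e ≫ snd P K) * (h ≫ α)⁻¹) =
      lift (lift h p ≫ a.act) ((lift h p ≫ a.act) ≫ e ≫ snd P K) :=
    sq.hom_ext (by rw [hinv, hγ, hγ]) (by rw [lift_fst, lift_fst])
  have e2 : (p ≫ e ≫ snd P K) * (h ≫ α)⁻¹ = (lift h p ≫ a.act) ≫ e ≫ snd P K := by
    simpa using congrArg (· ≫ snd P K) e1
  rw [← e2, inv_mul_cancel_right]

/-- A torsor under `G^(λ)` has a section when units lift modulo `λ` and `𝔾ₘ`-torsors are trivial. -/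
theorem hasSection [IsDomain R] (hlam : lam ≠ 0) [Flat f]
    (hunit : Function.Surjective (Units.map
      (Limits.pullback.fst f (Spec.map (CommRingCat.ofHom (Ideal.Quotient.mk (Ideal.span ({lam} : Set R)))))).appTop.hom.toMonoidHom))
    (hpic : ∀ (Q : Over X) (b : AlgGrp.Action (Red.bc f (Red.diag R ℤ)) Q),
      NonAbH1.IsTorsorFor Scheme.fppfPrecoverage b → NonAbH1.HasSectionOver Q (𝟙 X))
    {P : Over X} (a : AlgGrp.Action (Red.bc f (SekSuwa.G R lam)) P)
    (hP : NonAbH1.IsTorsorFor Scheme.fppfPrecoverage a)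
    (hflatG : Flat (Red.bc f (SekSuwa.G R lam)).hom) :
    NonAbH1.HasSectionOver P (𝟙 X) := by
  let G := Red.bc f (SekSuwa.G R lam)
  let K := Red.bc f (Red.diag R ℤ)
  haveI : IsAffineHom (SekSuwa.G R lam).hom := inferInstanceAs (IsAffineHom (Spec.map _))
  haveI : IsAffineHom (Red.diag R ℤ).hom := inferInstanceAs (IsAffineHom (Spec.map _))
  haveI : IsAffineHom (Red.bc f (SekSuwa.G R lam)).hom := MorphismProperty.pullback_snd _ _ ‹_›
  haveI : IsAffineHom (Red.bc f (Red.diag R ℤ)).hom := MorphismProperty.pullback_snd _ _ ‹_›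
  let α : G ⟶ K := (Over.pullback f).map (SekSuwa.alpha R lam)
  have hPf : NonAbH1.IsTorsorFor Scheme.fpqcPrecoverage a :=
    ⟨hP.1, hP.2.choose, Scheme.fppfPrecoverage_le_fpqcPrecoverage _ hP.2.choose_spec.1, hP.2.choose_spec.2⟩
  let π : P ⟶ 𝟙_ (Over X) := toUnit P
  have eπ : π.left = P.hom := (Category.comp_id _).symm.trans (Over.w π)
  have hπ : HasLocSec π := hasLocSec_of_isLocallyTrivialFor π (by rw [eπ]; exact hP.2)
  obtain ⟨γ, hγ⟩ := exists_equivariant α a hP hflatG hpic
  have heq : ∀ (W : Over X) (h : W ⟶ G) (p : W ⟶ P),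
      uCoord f ((lift h p ≫ a.act) ≫ γ) * (1 + lamOn f lam W * tCoord f h) = uCoord f (p ≫ γ) := by
    intro W h p
    rw [← uCoord_alpha, ← uCoord_mul]
    exact congrArg (uCoord f) (hγ W h p)
  -- the reduction modulo `λ`
  let cl := Spec.map (CommRingCat.ofHom (Ideal.Quotient.mk (Ideal.span ({lam} : Set R))))
  let L : Over X := Over.mk (pullback.fst f cl)
  have hlamL : lamOn f lam L = 0 := by
    have h : L.hom ≫ f = pullback.snd f cl ≫ cl := pullback.condition
    have h2 : (L.hom ≫ f).appTop ((Scheme.ΓSpecIso (CommRingCat.of R)).inv lam) =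
        (pullback.snd f cl).appTop ((Scheme.ΓSpecIso _).inv (Ideal.Quotient.mk (Ideal.span ({lam} : Set R)) lam)) := by
      rw [h]
      exact congrArg (fun ψ => (pullback.snd f cl).appTop ((ConcreteCategory.hom ψ) lam))
        (Scheme.ΓSpecIso_inv_naturality (CommRingCat.ofHom (Ideal.Quotient.mk (Ideal.span ({lam} : Set R))))).symm
    rw [Ideal.Quotient.eq_zero_iff_mem.2 (Ideal.mem_span_singleton_self lam), map_zero, map_zero] at h2
    exact h2
  have hlam0 : ∀ {W : Over X} (m : W ⟶ L), lamOn f lam W = 0 := fun m => by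
    rw [lamOn_comp f m, hlamL, map_zero]
  have hsnd : HasLocSec (snd P L) := hπ.of_isPullback (a := fst P L) (b := snd P L) (y := toUnit L)
    (isPullback_of_points (toUnit_unique _ _) fun T x y _ =>
      ⟨lift x y, ⟨lift_fst _ _, lift_snd _ _⟩, fun p hp => by rw [lift_fst_snd_self p, hp.1, hp.2]⟩)
  obtain ⟨w, hw, -⟩ := hsnd.existsUnique_desc (fst P L ≫ γ) fun T x y hxy => by
    obtain ⟨h, hh⟩ := Groth.Agent.SchTorsor.exists_div hP.1 (x ≫ fst P L) (y ≫ fst P L)
    refine uCoord_injective f ?_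
    rw [← Category.assoc, ← Category.assoc, ← heq T h (y ≫ fst P L), hh, hlam0 (x ≫ snd P L), MulZeroClass.zero_mul,
      add_zero, _root_.mul_one]
  obtain ⟨v, hv⟩ := hunit (isUnit_uCoord f w).unit
  obtain ⟨c, hc⟩ := exists_uCoord f (V := 𝟙_ (Over X)) v
  have hwc : w = toUnit L ≫ c := by
    refine uCoord_injective f ?_
    rw [uCoord_comp, hc, show (toUnit L).left = pullback.fst f cl from
      (Category.comp_id _).symm.trans (Over.w (toUnit L))]
    exact (congrArg Units.val hv).symm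
  -- uniqueness of points above `c`
  have huniq : ∀ (W : Over X) [Flat (W.hom ≫ f)] (p p' : W ⟶ P),
      p ≫ γ = toUnit W ≫ c → p' ≫ γ = toUnit W ≫ c → p = p' := by
    intro W _ p p' h h'
    obtain ⟨g, hg⟩ := Groth.Agent.SchTorsor.exists_div hP.1 p p'
    have e1 := heq W g p'
    rw [hg, h, h'] at e1
    have e2 : (1 : Γ(W.left, ⊤)) + lamOn f lam W * tCoord f g = 1 :=
      (isUnit_uCoord f (toUnit W ≫ c)).mul_left_cancel (e1.trans (_root_.mul_one _).symm)
    have e3 : g = 1 := tCoord_injective f (by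
      rw [tCoord_one f hlam]
      refine eq_zero_of_lamOn_mul f hlam ?_
      linear_combination e2)
    rw [← hg, e3, Groth.Agent.SchTorsor.one_act_pt]
  -- existence on affine opens with a section
  have hex : ∀ (B : Type u) [CommRing B] (j : Spec (CommRingCat.of B) ⟶ X), Flat (j ≫ f) →
      ∀ p : (Over.mk j : Over X) ⟶ P, ∃ p' : (Over.mk j : Over X) ⟶ P, p' ≫ γ = toUnit _ ≫ c := by
    intro B _ j hj p
    let V : Over X := Over.mk j
    haveI : Flat (V.hom ≫ f) := hj
    let e : Γ(V.left, ⊤) ≃+* B := (Scheme.ΓSpecIso (CommRingCat.of B)).commRingCatIsoToRingEquiv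
    let l : B := e (lamOn f lam V)
    let q' := Ideal.Quotient.mk (Ideal.span ({l} : Set B))
    let V₀ : Over X := Over.mk (Spec.map (CommRingCat.ofHom q') ≫ j)
    let v₀ : V₀ ⟶ V := Over.homMk (Spec.map (CommRingCat.ofHom q')) rfl
    let φ : R →+* B := (Spec.preimage (j ≫ f)).hom
    have hφ : φ lam = l := by
      have h1 : lamOn f lam V = (j ≫ f).appTop ((Scheme.ΓSpecIso (CommRingCat.of R)).inv lam) := rfl
      show φ lam = e _
      rw [h1, ← Spec.map_preimage (j ≫ f)]
      exact (congrArg (fun ψ => (ConcreteCategory.hom ψ) ((Scheme.ΓSpecIso (CommRingCat.of R)).inv lam))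
        (Scheme.ΓSpecIso_naturality (Spec.preimage (j ≫ f)))).trans
          (congrArg φ (Iso.inv_hom_id_apply (Scheme.ΓSpecIso (CommRingCat.of R)) lam)) |>.symm
    let ψ : R ⧸ Ideal.span ({lam} : Set R) →+* B ⧸ Ideal.span ({l} : Set B) :=
      Ideal.quotientMap _ φ (by
        rw [Ideal.span_le, Set.singleton_subset_iff, SetLike.mem_coe, Ideal.mem_comap, hφ]
        exact Ideal.mem_span_singleton_self l)
    let m : V₀ ⟶ L := Over.homMk (pullback.lift V₀.hom (Spec.map (CommRingCat.ofHom ψ)) (by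
      show (Spec.map (CommRingCat.ofHom q') ≫ j) ≫ f = Spec.map (CommRingCat.ofHom ψ) ≫ cl
      rw [Category.assoc, ← Spec.map_preimage (j ≫ f), ← Spec.map_comp, ← Spec.map_comp]
      rfl)) (pullback.lift_fst _ _ _)
    have hzero : v₀.left.appTop (uCoord f (p ≫ γ)) = v₀.left.appTop (uCoord f (toUnit V ≫ c)) := by
      rw [← uCoord_comp, ← uCoord_comp]
      congr 1
      have e1 : lift (v₀ ≫ p) m ≫ fst P L ≫ γ = m ≫ w := by
        rw [← hw, lift_snd_assoc]
      rw [lift_fst_assoc, Category.assoc] at e1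
      rw [e1, hwc, ← Category.assoc, toUnit_unique (m ≫ toUnit L) (v₀ ≫ toUnit V), Category.assoc]
    obtain ⟨b, hb⟩ : ∃ b : B, e (uCoord f (p ≫ γ)) - e (uCoord f (toUnit V ≫ c)) = b * l := by
      have hn : ∀ z : Γ(V.left, ⊤), (Scheme.ΓSpecIso _).hom (v₀.left.appTop z) = q' (e z) := fun z =>
        congrArg (fun ψ => (ConcreteCategory.hom ψ) z) (Scheme.ΓSpecIso_naturality (CommRingCat.ofHom q'))
      obtain ⟨b, hb⟩ := Ideal.mem_span_singleton'.1 (Ideal.Quotient.eq.1
        ((hn _).symm.trans ((congrArg (Scheme.ΓSpecIso _).hom hzero).trans (hn _))))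
      exact ⟨b, hb.symm⟩
    obtain ⟨ci, hci⟩ := (isUnit_uCoord f (toUnit V ≫ c)).exists_right_inv
    have hb' : uCoord f (p ≫ γ) =
        uCoord f (toUnit V ≫ c) * (1 + lamOn f lam V * (e.symm b * ci)) := by
      have hb2 : uCoord f (p ≫ γ) - uCoord f (toUnit V ≫ c) = e.symm b * lamOn f lam V :=
        e.injective (by rw [map_sub, map_mul, e.apply_symm_apply, hb])
      linear_combination hb2 - (lamOn f lam V * e.symm b) * hci
    obtain ⟨g, hg⟩ := exists_pt f (V := V) (e.symm b * ci)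
      (IsUnit.mul_iff.1 (hb' ▸ isUnit_uCoord f (p ≫ γ))).2
    refine ⟨lift g p ≫ a.act, uCoord_injective f ?_⟩
    have e1 := heq V g p
    rw [hg, hb'] at e1
    exact (IsUnit.mul_iff.1 (hb' ▸ isUnit_uCoord f (p ≫ γ))).2.mul_right_cancel e1
  -- Zariski-local sections
  obtain ⟨Rz, hRz, hsec⟩ : NonAbH1.IsLocallyTrivialFor Scheme.zariskiPrecoverage P := by
    have key := GLamTorsor.isLocallyTrivial_of_localH90On (GLamTorsor.localH90On f hlam)
      (fun R' _ v hv => by
        have : IsOpenImmersion v := hv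
        have : Flat (𝟙_ (Over X)).hom := (inferInstance : Flat (𝟙 X))
        show Flat ((v ≫ (𝟙_ (Over X)).hom) ≫ f)
        infer_instance)
      a π (toUnit_unique _ _) (fun T x y _ => Groth.Agent.SchTorsor.exists_div hP.1 x y)
      (fun T g g' y hg => Groth.Agent.SchTorsor.act_free hP.1 hg)
      (by rw [eπ]; exact hPf.2)
    rw [eπ] at key
    exact key
  have haff : ∀ x : X, ∃ (B : Type u) (_ : CommRing B) (j : Spec (CommRingCat.of B) ⟶ X),
      IsOpenImmersion j ∧ x ∈ Set.range j.base ∧ Nonempty ((Over.mk j : Over X) ⟶ P) := by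
    intro x
    obtain ⟨J, U, g, rfl⟩ := Rz.exists_eq_ofArrows
    obtain ⟨hcov, hop⟩ := (Scheme.ofArrows_mem_precoverage_iff _).1 hRz
    obtain ⟨i, y, hy⟩ := hcov x
    obtain ⟨k, z, hz⟩ := (U i).affineCover.exists_eq y
    obtain ⟨t, ht⟩ := hsec (g i) ⟨i⟩
    haveI := hop i
    let j : Spec Γ((U i).affineCover.X k, ⊤) ⟶ X :=
      ((U i).affineCover.X k).isoSpec.inv ≫ (U i).affineCover.f k ≫ g i
    refine ⟨_, inferInstance, j, inferInstance,
      ⟨((U i).affineCover.X k).isoSpec.hom.base z, ?_⟩,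
      ⟨Over.homMk (((U i).affineCover.X k).isoSpec.inv ≫ (U i).affineCover.f k ≫ t) (by
        show (_ ≫ _ ≫ t) ≫ P.hom = _
        simp only [Category.assoc, ht]
        rfl)⟩⟩
    show j.base _ = x
    simp only [j, ← Scheme.Hom.comp_apply, Iso.hom_inv_id_assoc]
    rw [Scheme.Hom.comp_apply, hz, hy]
  choose B hB j hj hjx hp using haff
  let 𝒰 : X.OpenCover :=
    { I₀ := X
      X := fun x => Spec (CommRingCat.of (B x))
      f := fun x => j x
      mem₀ := (Scheme.ofArrows_mem_precoverage_iff _).2 ⟨fun x => ⟨x, hjx x⟩, hj⟩ }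
  have hσ : ∀ x, ∃ σ : (Over.mk (j x) : Over X) ⟶ P, σ ≫ γ = toUnit _ ≫ c := fun x => by
    haveI := hj x
    exact hex (B x) (j x) inferInstance (hp x).some
  choose σ hσ using hσ
  have hglue : ∀ x y, pullback.fst (𝒰.f x) (𝒰.f y) ≫ (σ x).left = pullback.snd _ _ ≫ (σ y).left := by
    intro x y
    haveI := hj x
    haveI := hj y
    let W : Over X := Over.mk (pullback.fst (j x) (j y) ≫ j x)
    haveI : Flat (W.hom ≫ f) := by dsimp [W]; infer_instance
    let px : W ⟶ Over.mk (j x) := Over.homMk (pullback.fst (j x) (j y)) rfl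
    let py : W ⟶ Over.mk (j y) := Over.homMk (pullback.snd (j x) (j y)) pullback.condition.symm
    have := huniq W (px ≫ σ x) (py ≫ σ y)
      (by rw [Category.assoc, hσ, ← Category.assoc, toUnit_unique (px ≫ toUnit _) (toUnit W)])
      (by rw [Category.assoc, hσ, ← Category.assoc, toUnit_unique (py ≫ toUnit _) (toUnit W)])
    exact congrArg CommaMorphism.left this
  refine ⟨𝒰.glueMorphisms (fun x => (σ x).left) hglue, ?_⟩
  refine Scheme.Cover.hom_ext 𝒰 _ _ fun x => ?_
  rw [Scheme.Cover.ι_glueMorphisms_assoc, Category.comp_id]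
  exact Over.w (σ x)

end Groth.Agent.SekSuwaLib.GLamSection

namespace Groth.Agent.SekSuwaLib.GLamSection

open Polynomial in
/-- The coordinate ring of `G^(λ)` is flat. -/
theorem flat_A (R : Type u) [CommRing R] (lam : R) : Module.Flat R (SekSuwa.A R lam) := by
  let q : R[X] := 1 + C lam * X
  let L := Localization.Away q
  let φ : SekSuwa.A R lam →ₐ[R] L :=
    SekSuwa.A.lift R lam (algebraMap R[X] L X) (IsLocalization.Away.invSelf q) (by
      rw [Algebra.smul_def, IsScalarTower.algebraMap_apply R R[X] L, Polynomial.algebraMap_eq, ← map_mul,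
        ← map_one (algebraMap R[X] L), ← map_add, map_one]
      exact IsLocalization.Away.mul_invSelf q)
  have hu : IsUnit ((aeval (SekSuwa.A.t (R := R) (lam := lam))) q) := by
    simpa [q, SekSuwa.A.u_def] using (SekSuwa.A.isUnit_u (R := R) (lam := lam))
  let g : L →+* SekSuwa.A R lam :=
    IsLocalization.Away.lift q (g := (aeval (SekSuwa.A.t (R := R) (lam := lam))).toRingHom) hu
  have hg : ∀ x, g (algebraMap R[X] L x) = aeval (SekSuwa.A.t (R := R) (lam := lam)) x :=
    IsLocalization.Away.lift_eq q hu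
  have hg' : ∀ r : R, g (algebraMap R L r) = algebraMap R (SekSuwa.A R lam) r := by
    intro r
    rw [IsScalarTower.algebraMap_apply R R[X] L, hg]
    exact AlgHom.commutes _ r
  let ψ : L →ₐ[R] SekSuwa.A R lam := { g with commutes' := hg' }
  have h : ψ.comp φ = AlgHom.id R _ := by
    have ht : ψ (φ SekSuwa.A.t) = SekSuwa.A.t := by
      rw [show φ SekSuwa.A.t = _ from SekSuwa.A.lift_t _ _ _]
      exact (hg X).trans (aeval_X _)
    refine SekSuwa.A.algHom_ext ht ?_
    have e := congrArg (fun z => ψ (φ z)) (SekSuwa.A.u_mul_inv (R := R) (lam := lam))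
    simp only [map_mul, map_one] at e
    have e2 : ψ (φ SekSuwa.A.u) = SekSuwa.A.u := by
      simp only [SekSuwa.A.u_def, map_add, map_one, map_mul, AlgHom.commutes, ht]
    rw [e2] at e
    exact left_inv_eq_right_inv (by rw [_root_.mul_comm]; exact e) (SekSuwa.A.u_mul_inv (R := R) (lam := lam))
  haveI : Module.Flat R L :=
    Module.Flat.trans R R[X] L
  exact Module.Flat.of_retract φ.toLinearMap ψ.toLinearMap (congrArg AlgHom.toLinearMap h)

theorem flat_bc {R : Type u} [CommRing R] {X : Scheme.{u}} (f : X ⟶ Spec (CommRingCat.of R)) (lam : R) :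
    Flat (Red.bc f (SekSuwa.G R lam)).hom := by
  haveI := flat_A R lam
  exact MorphismProperty.pullback_snd _ _
    ((HasRingHomProperty.Spec_iff (P := @Flat)).2 (RingHom.flat_algebraMap_iff.2 inferInstance))

end Groth.Agent.SekSuwaLib.GLamSection
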