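import Groth.Agent.SekSuwaLib.GKPoints
import Groth.Agent.SekSuwaLib.GLamSection

/-!
# Characters of `G_{μ,N}` modulo `λ` extend to `G^(μ)`
-/

set_option autoImplicit false
set_option backward.isDefEq.respectTransparency false
set_option backward.isDefEq.respectTransparency.types false
set_option linter.style.haveILetI false

universe u

open CategoryTheory CategoryTheory.Limits MonoidalCategory CartesianMonoidalCategory MonObj AlgebraicGeometry SekSuwa
open WithConv
open scoped TensorProduct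

noncomputable section

namespace Groth.Agent.SekSuwaLib.CharLift

variable {R : Type u} [CommRing R]

/-- The product of two points evaluates through the comultiplication. -/
theorem exists_mul_eval {B : Type u} [CommRing B] [HopfAlgebra R B] {T : Over (Spec (CommRingCat.of R))}
    (x y : T ⟶ aff R B) :
    ∃ L : B ⊗[R] B →+* Γ(T.left, ⊤), (∀ a b, L (a ⊗ₜ[R] b) = ptRingHom x a * ptRingHom y b) ∧
      (∀ r, L (algebraMap R _ r) = strHom T r) ∧
      ∀ b, ptRingHom (x * y) b = L (Coalgebra.comul b) := by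
  letI := algΓ T
  let φ : B →ₐ[R] Γ(T.left, ⊤) := { ptRingHom x with commutes' := ptRingHom_algebraMap x }
  let ψ : B →ₐ[R] Γ(T.left, ⊤) := { ptRingHom y with commutes' := ptRingHom_algebraMap y }
  let L : B ⊗[R] B →ₐ[R] Γ(T.left, ⊤) :=
    (Algebra.TensorProduct.lmul' R).comp (Algebra.TensorProduct.map φ ψ)
  refine ⟨L.toRingHom, fun a b => by simp [L, φ, ψ], fun r => L.commutes r, fun b => ?_⟩
  let s : T ⟶ aff R Γ(T.left, ⊤) := ofRingHom (RingHom.id _) fun r => rfl
  have key : ∀ (χ : B →ₐ[R] Γ(T.left, ⊤)) (c : B), ptRingHom (s ≫ Spec.mapMulEquiv (toConv χ)) c = χ c := by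
    intro χ c
    rw [ptRingHom_comp s _ χ.toRingHom rfl, ptRingHom_ofRingHom]
    rfl
  have hx : s ≫ Spec.mapMulEquiv (toConv φ) = x := ptRingHom_injective (RingHom.ext fun c => key φ c)
  have hy : s ≫ Spec.mapMulEquiv (toConv ψ) = y := ptRingHom_injective (RingHom.ext fun c => key ψ c)
  conv_lhs => rw [← hx, ← hy, ← MonObj.comp_mul, ← map_mul]
  rw [← toConv_ofConv (toConv φ * toConv ψ), key, AlgHom.convMul_apply]
  refine AlgHom.congr_fun (Algebra.TensorProduct.ext' fun a c => ?_) _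
  simp [L]

/-- A morphism of group objects multiplicative on points is a homomorphism. -/
theorem isMonHom_of_mul {C : Type*} [Category C] [CartesianMonoidalCategory C] {G D : C} [GrpObj G] [GrpObj D]
    (ψ : G ⟶ D) (hmul : ∀ {V : C} (x y : V ⟶ G), (x * y) ≫ ψ = (x ≫ ψ) * (y ≫ ψ)) : IsMonHom ψ where
  one_hom := by
    have h1 := hmul (1 : 𝟙_ C ⟶ G) 1
    rw [_root_.mul_one] at h1
    have h2 : (1 : 𝟙_ C ⟶ G) ≫ ψ = 1 := left_eq_mul.1 h1
    rw [Hom.one_def, Hom.one_def, Category.assoc] at h2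
    simpa [toUnit_unique (toUnit (𝟙_ C)) (𝟙 _)] using h2
  mul_hom := by
    have h1 := hmul (fst G G) (snd G G)
    simp only [Hom.mul_def, lift_fst_snd, Category.id_comp] at h1
    rw [h1]
    congr 1
    apply CartesianMonoidalCategory.hom_ext <;> simp

section Alg

variable {mu : R} {N : ℕ} (h : DivCond mu N)

/-- Polynomials of degree at most `k` in the coordinate, in both factors. -/
def W (R : Type u) [CommRing R] (mu : R) (k : ℕ) : Submodule R (A R mu ⊗[R] A R mu) :=
  Submodule.span R {z | ∃ i j, i ≤ k ∧ j ≤ k ∧ z = (A.t ^ i) ⊗ₜ[R] (A.t ^ j)}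

theorem comul_pow_mem (k : ℕ) : Coalgebra.comul (R := R) ((A.t : A R mu) ^ k) ∈ W R mu k := by
  induction k with
  | zero =>
    rw [pow_zero, Bialgebra.comul_one]
    exact Submodule.subset_span ⟨0, 0, le_refl _, le_refl _, by rw [pow_zero, Algebra.TensorProduct.one_def]⟩
  | succ k ih =>
    rw [pow_succ', Bialgebra.comul_mul, A.comul_t]
    generalize Coalgebra.comul (R := R) ((A.t : A R mu) ^ k) = z at ih
    induction ih using Submodule.span_induction with
    | zero => rw [mul_zero]; exact Submodule.zero_mem _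
    | add x y _ _ hx hy => rw [mul_add]; exact Submodule.add_mem _ hx hy
    | smul r x _ hx => rw [mul_smul_comm]; exact Submodule.smul_mem _ _ hx
    | mem x hx =>
      obtain ⟨i, j, hi, hj, rfl⟩ := hx
      simp only [add_mul, smul_mul_assoc, Algebra.TensorProduct.tmul_mul_tmul, _root_.one_mul, ← pow_succ']
      refine Submodule.add_mem _ (Submodule.add_mem _ ?_ ?_) (Submodule.smul_mem _ _ ?_) <;>
        (refine Submodule.subset_span ⟨_, _, ?_, ?_, rfl⟩ <;> omega)

theorem W_mono {k l : ℕ} (hkl : k ≤ l) : W R mu k ≤ W R mu l :=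
  Submodule.span_mono fun _ ⟨i, j, hi, hj, e⟩ => ⟨i, j, hi.trans hkl, hj.trans hkl, e⟩

/-- An element of `G_{μ,N}` which is group-like modulo `r` lifts to a group-like element modulo `r` of `G^(μ)`. -/
theorem exists_lift (hN : 0 < N) (r : R) (a : AK R mu N h)
    (hΔ : ∃ z, Coalgebra.comul (R := R) a - a ⊗ₜ[R] a = r • z) :
    ∃ f : A R mu, AK.mkHom R mu N h f = a ∧ ∃ z, Coalgebra.comul (R := R) f - f ⊗ₜ[R] f = r • z := by
  obtain ⟨b, hb⟩ := exists_basis_pow h hN
  let s : AK R mu N h →ₗ[R] A R mu := b.constr R fun i => A.t ^ (i : ℕ)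
  have hs : ∀ i : ℕ, i < N → s (AK.t ^ i) = A.t ^ i := fun i hi => by
    rw [show (AK.t : AK R mu N h) ^ i = b ⟨i, hi⟩ from (hb ⟨i, hi⟩).symm]
    exact b.constr_basis R _ _
  let P : A R mu →ₐ[R] AK R mu N h := (AK.mkHom R mu N h : A R mu →ₐ[R] AK R mu N h)
  have hP : ∀ i : ℕ, P (A.t ^ i) = AK.t ^ i := fun i => (map_pow P _ i).trans rfl
  let σ := TensorProduct.map s s
  have hσ : ∀ z ∈ W R mu (N - 1), σ (Algebra.TensorProduct.map P P z) = z := by
    intro z hz
    induction hz using Submodule.span_induction with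
    | zero => simp
    | add x y _ _ hx hy => rw [map_add, map_add, hx, hy]
    | smul c x _ hx => rw [map_smul, map_smul, hx]
    | mem x hx =>
      obtain ⟨i, j, hi, hj, rfl⟩ := hx
      rw [Algebra.TensorProduct.map_tmul, hP, hP]
      show TensorProduct.map s s _ = _
      rw [TensorProduct.map_tmul, hs i (by omega), hs j (by omega)]
  let f : A R mu := s a
  have hf : f = ∑ i, b.repr a i • A.t ^ (i : ℕ) := by
    show s a = _
    rw [Module.Basis.constr_apply_fintype]
    simp
  have hPf : P f = a := by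
    rw [hf, map_sum]
    simp only [map_smul, hP, ← hb]
    exact b.sum_repr a
  refine ⟨f, hPf, ?_⟩
  have hmem₁ : Coalgebra.comul (R := R) f ∈ W R mu (N - 1) := by
    rw [hf, map_sum]
    refine Submodule.sum_mem _ fun i _ => ?_
    rw [map_smul]
    exact Submodule.smul_mem _ _ (W_mono (by omega) (comul_pow_mem (i : ℕ)))
  have hmem₂ : f ⊗ₜ[R] f ∈ W R mu (N - 1) := by
    rw [hf, TensorProduct.sum_tmul]
    refine Submodule.sum_mem _ fun i _ => ?_
    rw [TensorProduct.tmul_sum]
    refine Submodule.sum_mem _ fun j _ => ?_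
    rw [← TensorProduct.smul_tmul', TensorProduct.tmul_smul]
    exact Submodule.smul_mem _ _ (Submodule.smul_mem _ _
      (Submodule.subset_span ⟨i, j, by omega, by omega, rfl⟩))
  obtain ⟨z, hz⟩ := hΔ
  refine ⟨σ z, ?_⟩
  have e : Algebra.TensorProduct.map P P (Coalgebra.comul (R := R) f - f ⊗ₜ[R] f) = r • z := by
    rw [map_sub, Algebra.TensorProduct.map_tmul, hPf, ← hz, ← hPf]
    exact congrArg (· - P f ⊗ₜ[R] P f) (CoalgHomClass.map_comp_comul_apply (AK.mkHom R mu N h) f)
  rw [← hσ _ (Submodule.sub_mem _ hmem₁ hmem₂), e, map_smul]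

/-- An element group-like modulo `r` with counit one modulo `r` is a unit modulo `r`. -/
theorem exists_inv_mod {B : Type u} [CommRing B] [HopfAlgebra R B] (r : R) (f : B)
    (hΔ : ∃ z, Coalgebra.comul (R := R) f - f ⊗ₜ[R] f = r • z)
    (hε : ∃ c, Coalgebra.counit (R := R) f = 1 + r * c) :
    ∃ g z, f * g = 1 + r • (z : B) := by
  obtain ⟨z, hz⟩ := hΔ
  obtain ⟨c, hc⟩ := hε
  let L : B ⊗[R] B →ₐ[R] B := (Algebra.TensorProduct.lmul' R).comp
    (Algebra.TensorProduct.map (HopfAlgebra.antipodeAlgHom R B) (AlgHom.id R B))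
  have hL : L (Coalgebra.comul (R := R) f) = algebraMap R B (Coalgebra.counit (R := R) f) := by
    refine Eq.trans ?_ (HopfAlgebra.mul_antipode_rTensor_comul_apply (R := R) f)
    generalize Coalgebra.comul (R := R) f = w
    induction w using TensorProduct.induction_on with
    | zero => simp
    | add x y hx hy => simp only [map_add, hx, hy]
    | tmul x y => simp [L]
  refine ⟨HopfAlgebra.antipodeAlgHom R B f, algebraMap R B c - L z, ?_⟩
  have h2 : L (Coalgebra.comul (R := R) f) - L (f ⊗ₜ[R] f) = r • L z := by rw [← map_sub, hz, map_smul]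
  have h3 : L (f ⊗ₜ[R] f) = HopfAlgebra.antipodeAlgHom R B f * f := by simp [L]
  rw [hL, hc, h3, map_add, map_one, map_mul, ← Algebra.smul_def] at h2
  rw [smul_sub, ← h2, mul_comm]
  abel

end Alg

section Scheme

open GLamSection

variable (r : R)

/-- The inclusion of the closed subscheme cut out by `r`. -/
abbrev iota : Spec (CommRingCat.of (R ⧸ Ideal.span {r})) ⟶ Spec (CommRingCat.of R) :=
  Spec.map (CommRingCat.ofHom (Ideal.Quotient.mk (Ideal.span ({r} : Set R))))

theorem strHom_eq_zero (V : Over (Spec (CommRingCat.of (R ⧸ Ideal.span {r})))) :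
    strHom ((Over.map (iota r)).obj V) r = 0 := by
  have h : (Scheme.ΓSpecIso (CommRingCat.of R)).inv ≫ (V.hom ≫ iota r).appTop =
      CommRingCat.ofHom (Ideal.Quotient.mk (Ideal.span ({r} : Set R))) ≫
        (Scheme.ΓSpecIso (CommRingCat.of (R ⧸ Ideal.span {r}))).inv ≫ V.hom.appTop :=
    appTop_comp_SpecMap V.hom _
  show ((Scheme.ΓSpecIso (CommRingCat.of R)).inv ≫ (V.hom ≫ iota r).appTop).hom r = 0
  rw [h]
  show ((Scheme.ΓSpecIso _).inv ≫ V.hom.appTop).hom (Ideal.Quotient.mk _ r) = 0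
  rw [Ideal.Quotient.eq_zero_iff_mem.2 (Ideal.mem_span_singleton_self r), map_zero]

variable {mu : R} {N : ℕ} (h : DivCond mu N)

/-- A character modulo `r` is evaluation of a group-like element modulo `r`. -/
theorem exists_groupLike (φ : Red.bc (iota r) (GK R mu N h) ⟶ Red.bc (iota r) (Red.diag R ℤ)) [IsMonHom φ] :
    ∃ a : AK R mu N h,
      (∀ {V} (x : V ⟶ Red.bc (iota r) (GK R mu N h)),
        uCoord (iota r) (x ≫ φ) = ptRingHom (((Over.mapPullbackAdj (iota r)).homEquiv V _).symm x) a) ∧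
      (∃ z, Coalgebra.comul (R := R) a - a ⊗ₜ[R] a = r • z) ∧
      ∃ c, Coalgebra.counit (R := R) a = 1 + r * c := by
  let e := fun V => (Over.mapPullbackAdj (iota r)).homEquiv V (GK R mu N h)
  let c₀ := (e _).symm (𝟙 (Red.bc (iota r) (GK R mu N h)))
  have hρ : Function.Surjective (ptRingHom c₀) := by
    haveI : IsClosedImmersion (iota r) := IsClosedImmersion.spec_of_surjective _ Ideal.Quotient.mk_surjective
    haveI : IsClosedImmersion c₀.left := by
      have : c₀.left = pullback.fst (GK R mu N h).hom (iota r) := by simp [c₀, e, Adjunction.homEquiv_counit]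
      rw [this]
      infer_instance
    intro z
    haveI : IsAffine (GK R mu N h).left := inferInstanceAs (IsAffine (Spec _))
    obtain ⟨w, hw⟩ := c₀.left.app_surjective ⊤ (isAffineOpen_top _) z
    obtain ⟨a, ha⟩ := (ConcreteCategory.bijective_of_isIso (Scheme.ΓSpecIso (CommRingCat.of (AK R mu N h))).inv).2 w
    refine ⟨a, ?_⟩
    show c₀.left.appTop ((Scheme.ΓSpecIso (CommRingCat.of (AK R mu N h))).inv a) = z
    rw [ha]
    exact hw
  obtain ⟨a, ha⟩ := hρ (uCoord (iota r) φ)
  have heval : ∀ {V} (x : V ⟶ Red.bc (iota r) (GK R mu N h)),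
      uCoord (iota r) (x ≫ φ) = ptRingHom ((e V).symm x) a := by
    intro V x
    rw [uCoord_comp, ← ha]
    have he : (e V).symm x = (Over.map (iota r)).map x ≫ c₀ := by
      simp only [e, c₀, ← Adjunction.homEquiv_naturality_left_symm, Category.comp_id]
    rw [he, ptRingHom_comp_left]
    rfl
  -- the universal pair of points
  let C := (AK R mu N h ⊗[R] AK R mu N h) ⧸ Ideal.span {algebraMap R (AK R mu N h ⊗[R] AK R mu N h) r}
  let m : AK R mu N h ⊗[R] AK R mu N h →ₐ[R] C := Ideal.Quotient.mkₐ R _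
  let g : R ⧸ Ideal.span {r} →+* C := Ideal.Quotient.lift _ (algebraMap R C) (fun x hx => by
    obtain ⟨d, rfl⟩ := Ideal.mem_span_singleton'.1 hx
    rw [map_mul]
    have : algebraMap R C r = 0 :=
      Ideal.Quotient.eq_zero_iff_mem.2 (Ideal.mem_span_singleton_self _)
    rw [this, mul_zero])
  let V : Over (Spec (CommRingCat.of (R ⧸ Ideal.span {r}))) := Over.mk (Spec.map (CommRingCat.ofHom g))
  have hmk : ∀ χ : AK R mu N h →ₐ[R] C, ∃ x : V ⟶ Red.bc (iota r) (GK R mu N h),
      ∀ b, ptRingHom ((e V).symm x) b = (Scheme.ΓSpecIso (CommRingCat.of C)).inv (χ b) := by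
    intro χ
    let y : (Over.map (iota r)).obj V ⟶ GK R mu N h := Over.homMk (Spec.map (CommRingCat.ofHom χ.toRingHom)) (by
      show Spec.map _ ≫ Spec.map (CommRingCat.ofHom (algebraMap R (AK R mu N h))) = Spec.map _ ≫ iota r
      rw [← Spec.map_comp, ← Spec.map_comp]
      exact congrArg Spec.map (CommRingCat.hom_ext (RingHom.ext fun b => χ.commutes b)))
    refine ⟨e V y, fun b => ?_⟩
    rw [Equiv.symm_apply_apply]
    exact (ConcreteCategory.congr_hom (Scheme.ΓSpecIso_inv_naturality (CommRingCat.ofHom χ.toRingHom)) b).symm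
  obtain ⟨x₁, hx₁⟩ := hmk (m.comp Algebra.TensorProduct.includeLeft)
  obtain ⟨x₂, hx₂⟩ := hmk (m.comp Algebra.TensorProduct.includeRight)
  let jj := (Scheme.ΓSpecIso (CommRingCat.of C)).inv.hom
  have hjj : Function.Injective jj := (ConcreteCategory.bijective_of_isIso (Scheme.ΓSpecIso (CommRingCat.of C)).inv).1
  have hm : m (Coalgebra.comul (R := R) a) = m (a ⊗ₜ[R] a) := by
    refine hjj ?_
    obtain ⟨L, hL₁, hL₂, hL₃⟩ := exists_mul_eval ((e V).symm x₁) ((e V).symm x₂)
    have hLm : ∀ w, L w = jj (m w) := fun w => by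
      induction w using TensorProduct.induction_on with
      | zero => rw [map_zero, map_zero, map_zero]
      | add x y hx hy => rw [map_add, map_add, map_add, hx, hy]
      | tmul x y =>
        rw [hL₁, hx₁, hx₂]
        show jj (m (x ⊗ₜ 1)) * jj (m (1 ⊗ₜ y)) = _
        rw [← map_mul jj, ← map_mul, Algebra.TensorProduct.tmul_mul_tmul, _root_.mul_one, _root_.one_mul]
    rw [← hLm, ← hLm, ← hL₃]
    have hmul : (x₁ * x₂) ≫ φ = (x₁ ≫ φ) * (x₂ ≫ φ) := MonObj.mul_comp _ _ _
    have h1 := congrArg (uCoord (iota r)) hmul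
    rw [uCoord_mul, heval, heval, heval] at h1
    have h2 : (e V).symm (x₁ * x₂) = (e V).symm x₁ * (e V).symm x₂ := by
      rw [Equiv.symm_apply_eq, AlgGrp.Action.homEquiv_mul, Equiv.apply_symm_apply, Equiv.apply_symm_apply]
    rw [h2] at h1
    rw [h1, hL₁]
  have hΔ : ∃ z, Coalgebra.comul (R := R) a - a ⊗ₜ[R] a = r • z := by
    obtain ⟨z, hz⟩ := Ideal.mem_span_singleton'.1 (Ideal.Quotient.eq.1 hm)
    exact ⟨z, by rw [← hz, Algebra.smul_def, mul_comm]⟩
  refine ⟨a, heval, hΔ, ?_⟩
  -- the counit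
  have hu : IsUnit (m (a ⊗ₜ[R] 1)) := by
    have h1 := isUnit_uCoord (iota r) (x₁ ≫ φ)
    rw [heval, hx₁] at h1
    have h2 := h1.map (Scheme.ΓSpecIso (CommRingCat.of C)).hom.hom
    exact (congrArg IsUnit (Iso.inv_hom_id_apply (Scheme.ΓSpecIso (CommRingCat.of C)) _)).mp h2
  obtain ⟨v, hv⟩ := hu.exists_right_inv
  obtain ⟨v, rfl⟩ := Ideal.Quotient.mkₐ_surjective R _ v
  rw [show Ideal.Quotient.mkₐ R _ v = m v from rfl, ← map_mul, ← map_one m] at hv
  obtain ⟨w, hw⟩ := Ideal.mem_span_singleton'.1 (Ideal.Quotient.eq.1 hv)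
  let εε : AK R mu N h ⊗[R] AK R mu N h →ₐ[R] R := (Algebra.TensorProduct.lmul' R).comp
    (Algebra.TensorProduct.map (Bialgebra.counitAlgHom R _) (Bialgebra.counitAlgHom R _))
  obtain ⟨z, hz⟩ := hΔ
  have e1 : εε (Coalgebra.comul (R := R) a) = Coalgebra.counit (R := R) a := by
    have key : ∀ t, εε t = Coalgebra.counit (R := R)
        (TensorProduct.lid R _ (LinearMap.rTensor (AK R mu N h) (Coalgebra.counit (R := R)) t)) := by
      intro t
      induction t using TensorProduct.induction_on with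
      | zero => simp
      | add x y hx hy => simp only [map_add, hx, hy]
      | tmul x y => simp [εε]
    rw [key, Coalgebra.rTensor_counit_comul, TensorProduct.lid_tmul, one_smul]
  have e2 := congrArg εε hz
  rw [map_sub, e1, map_smul] at e2
  simp only [εε, AlgHom.comp_apply, Algebra.TensorProduct.map_tmul, Algebra.TensorProduct.lmul'_apply_tmul,
    Bialgebra.counitAlgHom_apply, smul_eq_mul] at e2
  have e3 := congrArg εε hw
  simp only [εε, map_mul, map_sub, map_one, AlgHom.commutes, AlgHom.comp_apply, Algebra.TensorProduct.map_tmul,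
    Algebra.TensorProduct.lmul'_apply_tmul, Bialgebra.counitAlgHom_apply, Algebra.algebraMap_self, RingHom.id_apply,
    Bialgebra.counit_one, _root_.mul_one] at e3
  set εa := Coalgebra.counit (R := R) a
  set εv := εε v with hεv
  set εz := εε z with hεz
  set εw := εε w with hεw
  simp only [εε, AlgHom.comp_apply] at hεv hεz hεw
  rw [← hεv, ← hεw] at e3
  rw [← hεz] at e2
  exact ⟨εw - εw * εa - εv * εz, by linear_combination -εv * e2 + (εa - 1) * e3⟩

/-- A character modulo `r` of `G_{μ,N}` extends to `G^(μ)`. -/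
theorem exists_extension (hN : 0 < N)
    (φ : Red.bc (iota r) (GK R mu N h) ⟶ Red.bc (iota r) (Red.diag R ℤ)) [IsMonHom φ] :
    ∃ ψ : Red.bc (iota r) (SekSuwa.G R mu) ⟶ Red.bc (iota r) (Red.diag R ℤ),
      IsMonHom ψ ∧ (Over.pullback (iota r)).map (incl R mu N h) ≫ ψ = φ := by
  obtain ⟨a, heval, hΔ, hε⟩ := exists_groupLike r h φ
  obtain ⟨f, hf, hΔf⟩ := exists_lift h hN r a hΔ
  have hεf : ∃ c, Coalgebra.counit (R := R) f = 1 + r * c := by
    obtain ⟨c, hc⟩ := hε
    refine ⟨c, ?_⟩
    rw [← hc, ← hf, CoalgHomClass.counit_comp_apply]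
  obtain ⟨g, z, hg⟩ := exists_inv_mod r f hΔf hεf
  let G' := Red.bc (iota r) (SekSuwa.G R mu)
  let c₀ := ((Over.mapPullbackAdj (iota r)).homEquiv G' (SekSuwa.G R mu)).symm (𝟙 G')
  have hz : ∀ {B : Type u} [CommRing B] [Algebra R B] {V} (x : (Over.map (iota r)).obj V ⟶ aff R B) (t : B),
      ptRingHom x (r • t) = 0 := fun x t => by
    rw [Algebra.smul_def, map_mul, ptRingHom_algebraMap, strHom_eq_zero, zero_mul]
  have hu : IsUnit (ptRingHom c₀ f) := by
    refine IsUnit.of_mul_eq_one (ptRingHom c₀ g) ?_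
    rw [← map_mul, hg, map_add, map_one, hz, add_zero]
  obtain ⟨ψ, hψ⟩ := exists_uCoord (iota r) (V := G') hu.unit
  have hev : ∀ {V} (x : V ⟶ G'),
      uCoord (iota r) (x ≫ ψ) = ptRingHom (((Over.mapPullbackAdj (iota r)).homEquiv V _).symm x) f := by
    intro V x
    have he : ((Over.mapPullbackAdj (iota r)).homEquiv V _).symm x = (Over.map (iota r)).map x ≫ c₀ := by
      simp only [c₀, ← Adjunction.homEquiv_naturality_left_symm, Category.comp_id]
    rw [uCoord_comp, hψ, IsUnit.unit_spec, he, ptRingHom_comp_left]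
    rfl
  have hmul : ∀ {V} (x y : V ⟶ G'), (x * y) ≫ ψ = (x ≫ ψ) * (y ≫ ψ) := by
    intro V x y
    refine uCoord_injective (iota r) ?_
    rw [uCoord_mul, hev, hev, hev]
    set eV := (Over.mapPullbackAdj (iota r)).homEquiv V (SekSuwa.G R mu)
    have h2 : eV.symm (x * y) = eV.symm x * eV.symm y := by
      rw [Equiv.symm_apply_eq, AlgGrp.Action.homEquiv_mul, Equiv.apply_symm_apply, Equiv.apply_symm_apply]
    obtain ⟨L, hL₁, hL₂, hL₃⟩ := exists_mul_eval (eV.symm x) (eV.symm y)
    obtain ⟨w, hw⟩ := hΔf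
    rw [h2, hL₃, sub_eq_iff_eq_add'.1 hw, map_add, hL₁, Algebra.smul_def, map_mul, hL₂, strHom_eq_zero, zero_mul,
      add_zero]
  refine ⟨ψ, isMonHom_of_mul ψ hmul, ?_⟩
  refine uCoord_injective (iota r) ?_
  rw [hev, ← Category.id_comp φ, heval]
  have h2 : ((Over.mapPullbackAdj (iota r)).homEquiv _ _).symm ((Over.pullback (iota r)).map (incl R mu N h)) =
      ((Over.mapPullbackAdj (iota r)).homEquiv _ _).symm (𝟙 (Red.bc (iota r) (GK R mu N h))) ≫ incl R mu N h := by
    rw [← Adjunction.homEquiv_naturality_right_symm, Category.id_comp]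
  rw [h2, incl, ptRingHom_comp_specHom, hf]

end Scheme

end Groth.Agent.SekSuwaLib.CharLift

end
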