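import Groth.Prelude.Def_SekSuwa2
import Mathlib.AlgebraicGeometry.GammaSpecAdjunction
import Mathlib.AlgebraicGeometry.Morphisms.Flat
import Mathlib.RingTheory.Flat.TorsionFree
import Mathlib.AlgebraicGeometry.AffineScheme

/-! Points of affine `R`-groups with values in an arbitrary `R`-scheme, as algebra maps into global sections. -/

universe u

open CategoryTheory MonoidalCategory CartesianMonoidalCategory MonObj AlgebraicGeometry Opposite
open WithConv

namespace Groth.Agent.SekSuwaLib

set_option backward.isDefEq.respectTransparency.types false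

variable {R : Type u} [CommRing R]

/-- The affine scheme of an algebra. -/
noncomputable abbrev aff (R : Type u) [CommRing R] (B : Type u) [CommRing B] [Algebra R B] : Over (Spec (CommRingCat.of R)) :=
  (Spec (CommRingCat.of B)).asOver (Spec (CommRingCat.of R))

/-- The ring map on global sections given by the structure map. -/
noncomputable def strHom (T : Over (Spec (CommRingCat.of R))) : R →+* Γ(T.left, ⊤) :=
  ((Scheme.ΓSpecIso (CommRingCat.of R)).inv ≫ T.hom.appTop).hom

/-- The algebra structure on global sections. -/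
@[implicit_reducible] noncomputable def algΓ (T : Over (Spec (CommRingCat.of R))) : Algebra R Γ(T.left, ⊤) :=
  (strHom T).toAlgebra

variable {B B' : Type u} [CommRing B] [CommRing B'] {T : Over (Spec (CommRingCat.of R))}

theorem appTop_comp_SpecMap {X : Scheme.{u}} {B C : Type u} [CommRing B] [CommRing C]
    (g : X ⟶ Spec (CommRingCat.of B)) (φ : C →+* B) :
    (Scheme.ΓSpecIso (CommRingCat.of C)).inv ≫ (g ≫ Spec.map (CommRingCat.ofHom φ)).appTop =
      CommRingCat.ofHom φ ≫ (Scheme.ΓSpecIso (CommRingCat.of B)).inv ≫ g.appTop := by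
  rw [Scheme.Hom.comp_appTop, Scheme.ΓSpecIso_inv_naturality_assoc]

/-- The underlying ring map of a point. -/
noncomputable def ptRingHom [Algebra R B] (f : T ⟶ aff R B) : B →+* Γ(T.left, ⊤) :=
  ((Scheme.ΓSpecIso (CommRingCat.of B)).inv ≫ f.left.appTop).hom

theorem ptRingHom_algebraMap [Algebra R B] (f : T ⟶ aff R B) (r : R) :
    ptRingHom f (algebraMap R B r) = strHom T r := by
  have h : f.left ≫ Spec.map (CommRingCat.ofHom (algebraMap R B)) = T.hom := Over.w f
  have h2 : CommRingCat.ofHom (algebraMap R B) ≫ (Scheme.ΓSpecIso (CommRingCat.of B)).inv ≫ f.left.appTop =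
      (Scheme.ΓSpecIso (CommRingCat.of R)).inv ≫ T.hom.appTop :=
    (appTop_comp_SpecMap f.left (algebraMap R B)).symm.trans (by rw [← h]; rfl)
  exact congrArg (fun φ => φ.hom r) h2

theorem ptRingHom_injective [Algebra R B] {f g : T ⟶ aff R B} (h : ptRingHom f = ptRingHom g) : f = g := by
  apply Over.OverMorphism.ext
  have h' : f.left.appTop = g.left.appTop := by
    have := (CommRingCat.hom_ext h : (Scheme.ΓSpecIso (CommRingCat.of B)).inv ≫ f.left.appTop =
      (Scheme.ΓSpecIso (CommRingCat.of B)).inv ≫ g.left.appTop)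
    exact (cancel_epi (Scheme.ΓSpecIso (CommRingCat.of B)).inv).mp this
  haveI : IsAffine (aff R B).left := inferInstanceAs (IsAffine (Spec _))
  exact ext_of_isAffine h'

theorem ptRingHom_comp [Algebra R B] [Algebra R B'] (f : T ⟶ aff R B) (m : aff R B ⟶ aff R B') (φ : B' →+* B)
    (hm : m.left = Spec.map (CommRingCat.ofHom φ)) (x : B') :
    ptRingHom (f ≫ m) x = ptRingHom f (φ x) := by
  have h2 : (Scheme.ΓSpecIso (CommRingCat.of B')).inv ≫ (f ≫ m).left.appTop =
      CommRingCat.ofHom φ ≫ (Scheme.ΓSpecIso (CommRingCat.of B)).inv ≫ f.left.appTop :=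
    Eq.trans (by rw [Over.comp_left, hm]; rfl) (appTop_comp_SpecMap f.left φ)
  exact congrArg (fun ψ => ψ.hom x) h2

theorem ptRingHom_comp_specHom [Bialgebra R B] [Bialgebra R B'] (f : T ⟶ aff R B) (φ : B' →ₐc[R] B) (x : B') :
    ptRingHom (f ≫ SekSuwa.specHom φ) x = ptRingHom f (φ x) :=
  ptRingHom_comp f (SekSuwa.specHom φ) (φ : B' →+* B) rfl x

/-- The point given by a ring map compatible with the structure map. -/
noncomputable def ofRingHom [Algebra R B] (φ : B →+* Γ(T.left, ⊤)) (h : ∀ r, φ (algebraMap R B r) = strHom T r) :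
    T ⟶ aff R B :=
  Over.homMk (T.left.toSpecΓ ≫ Spec.map (CommRingCat.ofHom φ)) (by
    show (_ ≫ Spec.map (CommRingCat.ofHom φ)) ≫ Spec.map (CommRingCat.ofHom (algebraMap R B)) = T.hom
    have h' : CommRingCat.ofHom (algebraMap R B) ≫ CommRingCat.ofHom φ =
        (Scheme.ΓSpecIso (CommRingCat.of R)).inv ≫ T.hom.appTop := CommRingCat.hom_ext (RingHom.ext h)
    rw [Category.assoc, ← Spec.map_comp, h', Spec.map_comp, ← Scheme.toSpecΓ_naturality_assoc,
      toSpecΓ_SpecMap_ΓSpecIso_inv, Category.comp_id])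

theorem ptRingHom_ofRingHom [Algebra R B] (φ : B →+* Γ(T.left, ⊤)) (h : ∀ r, φ (algebraMap R B r) = strHom T r) :
    ptRingHom (ofRingHom φ h) = φ := by
  have h2 : (Scheme.ΓSpecIso (CommRingCat.of B)).inv ≫ (T.left.toSpecΓ ≫ Spec.map (CommRingCat.ofHom φ)).appTop =
      CommRingCat.ofHom φ := by
    rw [Scheme.Hom.comp_appTop, ← Scheme.ΓSpecIso_inv_naturality_assoc, Scheme.toSpecΓ_appTop, Iso.inv_hom_id,
      Category.comp_id]
  exact congrArg CommRingCat.Hom.hom h2

/-- The neutral point is given by the counit. -/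
theorem ptRingHom_one [HopfAlgebra R B] (x : B) :
    ptRingHom (toUnit T ≫ η[aff R B]) x = strHom T (Coalgebra.counit (R := R) x) := by
  let s : T ⟶ aff R R := Over.homMk T.hom (by
    show T.hom ≫ Spec.map (CommRingCat.ofHom (algebraMap R R)) = T.hom
    rw [Algebra.algebraMap_self]
    exact (congrArg (T.hom ≫ ·) (Spec.map_id _)).trans (Category.comp_id _))
  have h1 : toUnit (aff R R) ≫ η[aff R B] =
      Spec.mapMulEquiv (toConv (Bialgebra.counitAlgHom R B)) := by
    refine (map_one Spec.mapMulEquiv).symm.trans (congrArg _ ?_)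
    refine WithConv.ext (AlgHom.ext fun a => ?_)
    rw [AlgHom.convOne_apply]
    rfl
  have h2 : toUnit T ≫ η[aff R B] = s ≫ Spec.mapMulEquiv (toConv (Bialgebra.counitAlgHom R B)) := by
    rw [← h1, ← Category.assoc, comp_toUnit]
  rw [h2, ptRingHom_comp s _ (Bialgebra.counitAlgHom R B).toRingHom rfl]
  exact (ptRingHom_algebraMap s _)

/-- A non-zero-divisor of the base is a non-zero-divisor on global sections of a flat scheme. -/
theorem eq_zero_of_mul_eq_zero [Flat T.hom] {r : R} (hr : r ∈ nonZeroDivisors R) {z : Γ(T.left, ⊤)}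
    (hz : strHom T r * z = 0) : z = 0 := by
  choose U hU hxU _ using fun x : T.left => (TopologicalSpace.Opens.isBasis_iff_nbhd.mp T.left.isBasis_affineOpens)
    (show x ∈ (⊤ : T.left.Opens) from trivial) |>.imp fun U h => And.intro h.1 (And.intro h.2.1 h.2.2)
  refine TopCat.Sheaf.eq_of_locally_eq' T.left.sheaf U ⊤ (fun x => homOfLE le_top)
    (fun x _ => TopologicalSpace.Opens.mem_iSup.2 ⟨x, hxU x⟩) z 0 fun x => ?_
  let ρ : R →+* Γ(T.left, U x) := (T.left.presheaf.map (homOfLE le_top).op).hom.comp (strHom T)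
  have hflat : ρ.Flat := by
    have h := HasRingHomProperty.appLE @Flat T.hom ‹_› ⟨⊤, isAffineOpen_top _⟩ ⟨U x, hU x⟩
      (le_top : U x ≤ T.hom ⁻¹ᵁ ⊤)
    exact RingHom.Flat.respectsIso.2 _ (Scheme.ΓSpecIso (CommRingCat.of R)).symm.commRingCatIsoToRingEquiv h
  letI : Algebra R Γ(T.left, U x) := ρ.toAlgebra
  haveI : Module.Flat R Γ(T.left, U x) := hflat
  refine Eq.trans ?_ (map_zero (T.left.presheaf.map (homOfLE le_top).op).hom).symm
  have hreg : IsSMulRegular Γ(T.left, U x) r :=
    Module.Flat.isSMulRegular_of_nonZeroDivisors hr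
  apply hreg
  show r • _ = r • (0 : Γ(T.left, U x))
  rw [smul_zero]
  exact (map_mul (T.left.presheaf.map (homOfLE le_top).op).hom _ z).symm.trans (by rw [hz]; exact map_zero _)

end Groth.Agent.SekSuwaLib
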