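import Groth.Agent.SekSuwaLib.Points
import Groth.Prelude.Def_AlgGrp
import Mathlib.RingTheory.AdjoinRoot
import Mathlib.RingTheory.RootsOfUnity.AlgebraicallyClosed
import Mathlib.LinearAlgebra.Vandermonde
import Mathlib.LinearAlgebra.TensorProduct.Basis
import Mathlib.GroupTheory.GroupAction.Quotient
import Mathlib.AlgebraicGeometry.Pullbacks
import Mathlib.FieldTheory.IsAlgClosed.AlgebraicClosure

/-! Geometric points of the finite groups `G_{λ,N}` and the separation of functions by them. -/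

universe u

open CategoryTheory MonoidalCategory CartesianMonoidalCategory MonObj AlgebraicGeometry

namespace Groth.Agent.SekSuwaLib

open SekSuwa

variable {R : Type u} [CommRing R] {lam : R} {N : ℕ} (h : DivCond lam N)

theorem exists_basis_pow (hN : 0 < N) :
    ∃ b : Module.Basis (Fin N) R (AK R lam N h), ∀ i, b i = AK.t ^ (i : ℕ) := by
  classical
  rcases subsingleton_or_nontrivial R with hR | hR
  · haveI : Subsingleton (AK R lam N h) := Module.subsingleton R _
    exact ⟨Module.Basis.mk (v := fun i : Fin N => AK.t ^ (i : ℕ))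
      (Fintype.linearIndependent_iff.mpr fun g _ i => Subsingleton.elim _ _)
      (fun z _ => Subsingleton.elim 0 z ▸ Submodule.zero_mem _), fun i => Subsingleton.elim _ _⟩
  set P := psiPoly lam N h with hP
  have hcoeff : ∀ k, 0 < k → lam ^ N * P.coeff k = lam ^ k * (N.choose k : R) := by
    intro k hk
    have h1 := congrArg (fun q => Polynomial.coeff q k) (psiPoly_spec h)
    simp only [Polynomial.coeff_C_mul] at h1
    rw [← hP] at h1
    rw [h1, Polynomial.coeff_sub, Polynomial.coeff_one, if_neg hk.ne', sub_zero, add_comm, add_pow,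
      Polynomial.finsetSum_coeff]
    simp only [mul_pow, one_pow, _root_.mul_one, ← Polynomial.C_pow, ← Polynomial.C_eq_natCast, Polynomial.coeff_mul_C,
      Polynomial.coeff_C_mul_X_pow]
    rw [Finset.sum_eq_single k]
    · simp
    · intro b _ hb; simp [Ne.symm hb]
    · intro hb
      rw [Finset.mem_range, not_lt] at hb
      simp [Nat.choose_eq_zero_of_lt (show N < k by omega)]
  have hN1 : P.coeff N = 1 := SekSuwa.cancel_nzd h.pow_nzd (by rw [hcoeff N hN, Nat.choose_self, Nat.cast_one])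
  have hdeg : P.natDegree ≤ N := Polynomial.natDegree_le_iff_coeff_eq_zero.2 fun k hk =>
    SekSuwa.cancel_nzd h.pow_nzd (by rw [hcoeff k (by omega), Nat.choose_eq_zero_of_lt hk, Nat.cast_zero, mul_zero, mul_zero])
  have hm : P.Monic := Polynomial.monic_of_natDegree_le_of_coeff_eq_one N hdeg hN1
  let x : AdjoinRoot P := AdjoinRoot.root P
  have hx : Polynomial.aeval x P = 0 := by rw [Polynomial.aeval_def]; exact AdjoinRoot.eval₂_root P
  have hu : (1 + lam • x) * (1 + lam • x) ^ (N - 1) = 1 := by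
    rw [← pow_succ', show N - 1 + 1 = N by omega, Algebra.smul_def]
    have h1 := aeval_psiPoly h x
    rw [← hP, hx, mul_zero] at h1
    exact (sub_eq_zero.1 h1.symm)
  let l : A R lam →ₐ[R] AdjoinRoot P := A.lift R lam x ((1 + lam • x) ^ (N - 1)) hu
  let toB : AK R lam N h →ₐ[R] AdjoinRoot P := Ideal.Quotient.liftₐ (kerIdeal lam N h) l (by
    intro z hz
    obtain ⟨c, rfl⟩ := Ideal.mem_span_singleton'.mp hz
    rw [map_mul, kerGen, ← Polynomial.aeval_algHom_apply, A.lift_t, ← hP, hx, mul_zero])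
  have ht : toB AK.t = x := A.lift_t _ _ hu
  have hi : toB AK.inv = (1 + lam • x) ^ (N - 1) := A.lift_inv _ _ hu
  let toA : AdjoinRoot P →ₐ[R] AK R lam N h := AdjoinRoot.liftAlgHom P (Algebra.ofId R _) AK.t
    (by have := AK.aeval_t (R := R) (lam := lam) (N := N) (h := h); rwa [← hP, Polynomial.aeval_def] at this)
  have hx' : toA x = AK.t := AdjoinRoot.liftAlgHom_root ..
  have hinv : (AK.inv : AK R lam N h) = (1 + lam • AK.t) ^ (N - 1) := by
    have e1 : (1 + lam • (AK.t : AK R lam N h)) * AK.inv = 1 := by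
      have := congrArg (AK.mkHom R lam N h) (A.u_mul_inv (R := R) (lam := lam))
      rw [map_mul, map_one, A.u, map_add, map_one, map_smul] at this
      exact this
    calc (AK.inv : AK R lam N h) = (1 + lam • AK.t) ^ N * AK.inv := by rw [AK.u_pow, _root_.one_mul]
      _ = _ := by rw [← pow_sub_one_mul hN.ne' (1 + lam • (AK.t : AK R lam N h)), _root_.mul_assoc, e1, _root_.mul_one]
  let e : AK R lam N h ≃ₐ[R] AdjoinRoot P := AlgEquiv.ofAlgHom toB toA
    (AdjoinRoot.algHom_ext (by rw [AlgHom.comp_apply, hx', ht]; rfl))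
    (AK.algHom_ext (by rw [AlgHom.comp_apply, ht, hx']; rfl) (by
      rw [AlgHom.comp_apply, hi, map_pow, map_add, map_one, map_smul, hx', ← hinv]
      rfl))
  have hdim : (AdjoinRoot.powerBasis' hm).dim = N := by
    rw [AdjoinRoot.powerBasis'_dim]
    exact le_antisymm hdeg (Polynomial.le_natDegree_of_ne_zero (by rw [hN1]; exact one_ne_zero))
  refine ⟨((AdjoinRoot.powerBasis' hm).basis.map e.symm.toLinearEquiv).reindex (finCongr hdim), fun i => ?_⟩
  rw [Module.Basis.reindex_apply, Module.Basis.map_apply, PowerBasis.basis_eq_pow, AdjoinRoot.powerBasis'_gen]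
  show e.symm (x ^ _) = _
  rw [map_pow]
  exact congrArg₂ (· ^ ·) hx' rfl

variable {Ω : Type u} [Field Ω] [Algebra R Ω]

omit [Field Ω] [Algebra R Ω] in
theorem inv_eq (hN : 0 < N) : (AK.inv : AK R lam N h) = (1 + lam • AK.t) ^ (N - 1) := by
  have e1 : (1 + lam • (AK.t : AK R lam N h)) * AK.inv = 1 := by
    have := congrArg (AK.mkHom R lam N h) (A.u_mul_inv (R := R) (lam := lam))
    rw [map_mul, map_one, A.u, map_add, map_one, map_smul] at this
    exact this
  calc (AK.inv : AK R lam N h) = (1 + lam • AK.t) ^ N * AK.inv := by rw [AK.u_pow, _root_.one_mul]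
    _ = _ := by rw [← pow_sub_one_mul hN.ne' (1 + lam • (AK.t : AK R lam N h)), _root_.mul_assoc, e1, _root_.mul_one]

/-- The point with `1 + λ t = ζ`. -/
theorem exists_point (hN : 0 < N) (hlam : algebraMap R Ω lam ≠ 0) {z : Ω} (hz : z ^ N = 1) :
    ∃ g : AK R lam N h →ₐ[R] Ω, g AK.t = (z - 1) / algebraMap R Ω lam := by
  let a := (z - 1) / algebraMap R Ω lam
  have hla : algebraMap R Ω lam * a = z - 1 := mul_div_cancel₀ _ hlam
  have hu : (1 + lam • a) * z ^ (N - 1) = 1 := by
    rw [Algebra.smul_def, hla, add_sub_cancel, ← pow_succ', show N - 1 + 1 = N by omega, hz]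
  have hP : Polynomial.aeval a (psiPoly lam N h) = 0 := by
    have h1 := aeval_psiPoly h a
    rw [hla, add_sub_cancel, hz, sub_self, map_pow] at h1
    exact (mul_eq_zero.mp h1).resolve_left (pow_ne_zero _ hlam)
  refine ⟨Ideal.Quotient.liftₐ (kerIdeal lam N h) (A.lift R lam a (z ^ (N - 1)) hu) (by
    intro w hw
    obtain ⟨c, rfl⟩ := Ideal.mem_span_singleton'.mp hw
    rw [map_mul, kerGen, ← Polynomial.aeval_algHom_apply, A.lift_t, hP, mul_zero]), A.lift_t _ _ hu⟩

/-- The geometric points of `G_{λ,N}` are the `N`-th roots of unity. -/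
theorem natCard_algHom [IsAlgClosed Ω] [NeZero (N : Ω)] (hlam : algebraMap R Ω lam ≠ 0) :
    Nat.card (AK R lam N h →ₐ[R] Ω) = N := by
  have hN : 0 < N := Nat.pos_of_ne_zero fun h0 => NeZero.ne (N : Ω) (by rw [h0, Nat.cast_zero])
  haveI : NeZero N := ⟨hN.ne'⟩
  have hpow : ∀ g : AK R lam N h →ₐ[R] Ω, (1 + algebraMap R Ω lam * g AK.t) ^ N = 1 := fun g => by
    have h1 := congrArg g (AK.u_pow (R := R) (lam := lam) (N := N) (h := h))
    rwa [map_pow, map_add, map_one, map_smul, Algebra.smul_def] at h1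
  let f : (AK R lam N h →ₐ[R] Ω) → rootsOfUnity N Ω := fun g =>
    rootsOfUnity.mkOfPowEq (1 + algebraMap R Ω lam * g AK.t) (hpow g)
  rw [Nat.card_eq_of_bijective f ⟨fun g g' hgg => ?_, fun z => ?_⟩, HasEnoughRootsOfUnity.natCard_rootsOfUnity]
  · have h1 : 1 + algebraMap R Ω lam * g AK.t = 1 + algebraMap R Ω lam * g' AK.t :=
      congrArg (fun z : rootsOfUnity N Ω => ((z : Ωˣ) : Ω)) hgg
    have h2 : g AK.t = g' AK.t := mul_left_cancel₀ hlam (add_left_cancel h1)
    exact AK.algHom_ext h2 (by rw [inv_eq h hN, map_pow, map_pow, map_add, map_add, map_smul, map_smul, h2, map_one, map_one])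
  · obtain ⟨g, hg⟩ := exists_point h hN hlam (z := ((z : Ωˣ) : Ω)) (by
      rw [← Units.val_pow_eq_pow_val, (mem_rootsOfUnity N _).mp z.2, Units.val_one])
    refine ⟨g, ?_⟩
    apply Subtype.ext
    apply Units.ext
    show 1 + algebraMap R Ω lam * g AK.t = _
    rw [hg, mul_div_cancel₀ _ hlam, add_sub_cancel]

/-- Functions on a product of two groups `G_{λ,N}` are separated by the geometric points. -/
theorem eq_zero_of_forall_lift [IsAlgClosed Ω] [NeZero (N : Ω)] {mu : R} (h₂ : DivCond mu N)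
    (hinj : Function.Injective (algebraMap R Ω)) (hlam : algebraMap R Ω lam ≠ 0) (hmu : algebraMap R Ω mu ≠ 0)
    {d : TensorProduct R (AK R lam N h) (AK R mu N h₂)}
    (hd : ∀ (g : AK R lam N h →ₐ[R] Ω) (x : AK R mu N h₂ →ₐ[R] Ω),
      Algebra.TensorProduct.lift g x (fun _ _ => .all _ _) d = 0) : d = 0 := by
  have hN : 0 < N := Nat.pos_of_ne_zero fun h0 => NeZero.ne (N : Ω) (by rw [h0, Nat.cast_zero])
  obtain ⟨b₁, hb₁⟩ := exists_basis_pow h hN
  obtain ⟨b₂, hb₂⟩ := exists_basis_pow h₂ hN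
  let b := b₁.tensorProduct b₂
  haveI : NeZero N := ⟨hN.ne'⟩
  obtain ⟨ζ, hζ⟩ := HasEnoughRootsOfUnity.exists_primitiveRoot Ω N
  let a : R → Fin N → Ω := fun l i => (ζ ^ (i : ℕ) - 1) / algebraMap R Ω l
  have hainj : ∀ l : R, algebraMap R Ω l ≠ 0 → Function.Injective (a l) := fun l hl i j hij => by
    have h1 : ζ ^ (i : ℕ) = ζ ^ (j : ℕ) := sub_left_injective ((div_left_inj' hl).mp hij)
    exact Fin.ext (hζ.pow_inj i.2 j.2 h1)
  let c : Fin N → Fin N → Ω := fun i j => algebraMap R Ω (b.repr d (i, j))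
  have hsum : ∀ i' j', ∑ i, (∑ j, c i j * a mu j' ^ (j : ℕ)) * a lam i' ^ (i : ℕ) = 0 := by
    intro i' j'
    obtain ⟨g, hg⟩ := exists_point h hN hlam (z := ζ ^ (i' : ℕ)) (by rw [← pow_mul, mul_comm, pow_mul, hζ.pow_eq_one, one_pow])
    obtain ⟨x, hx⟩ := exists_point h₂ hN hmu (z := ζ ^ (j' : ℕ)) (by rw [← pow_mul, mul_comm, pow_mul, hζ.pow_eq_one, one_pow])
    have h1 := hd g x
    rw [← b.sum_repr d, map_sum, Fintype.sum_prod_type] at h1
    rw [← h1]
    refine Finset.sum_congr rfl fun i _ => ?_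
    rw [Finset.sum_mul]
    refine Finset.sum_congr rfl fun j _ => ?_
    rw [map_smul, Module.Basis.tensorProduct_apply, Algebra.TensorProduct.lift_tmul, hb₁, hb₂, map_pow, map_pow, hg, hx,
      Algebra.smul_def]
    show c i j * a mu j' ^ (j : ℕ) * a lam i' ^ (i : ℕ) = _ * (a lam i' ^ (i : ℕ) * a mu j' ^ (j : ℕ))
    ring
  have h2 : ∀ i, (fun j' => ∑ j, c i j * a mu j' ^ (j : ℕ)) = 0 := fun i => funext fun j' =>
    congrFun (Matrix.eq_zero_of_forall_index_sum_mul_pow_eq_zero (hainj lam hlam)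
      (v := fun i => ∑ j, c i j * a mu j' ^ (j : ℕ)) fun i' => hsum i' j') i
  have h3 : ∀ i j, c i j = 0 := fun i j =>
    congrFun (Matrix.eq_zero_of_forall_index_sum_mul_pow_eq_zero (hainj mu hmu) fun j' => congrFun (h2 i) j') j
  refine b.repr.injective (Finsupp.ext fun ij => hinj ?_)
  rw [map_zero, Finsupp.zero_apply, map_zero]
  exact h3 ij.1 ij.2

/-- The points of an affine scheme with values in a field. -/
noncomputable def algHomEquiv (B C : Type u) [CommRing B] [Algebra R B] [CommRing C] [Algebra R C] :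
    (B →ₐ[R] C) ≃ (aff R C ⟶ aff R B) where
  toFun g := Over.homMk (Spec.map (CommRingCat.ofHom g.toRingHom)) (by
    show Spec.map _ ≫ Spec.map (CommRingCat.ofHom (algebraMap R B)) = Spec.map (CommRingCat.ofHom (algebraMap R C))
    rw [← Spec.map_comp]
    exact congrArg Spec.map (CommRingCat.hom_ext g.comp_algebraMap))
  invFun m :=
    { (Spec.preimage m.left).hom with
      commutes' := fun r => by
        have h1 : CommRingCat.ofHom (algebraMap R B) ≫ Spec.preimage m.left = CommRingCat.ofHom (algebraMap R C) := by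
          apply Spec.map_injective
          rw [Spec.map_comp]
          exact (congrArg (· ≫ _) (Spec.map_preimage m.left)).trans (Over.w m)
        exact congrArg (fun f => f.hom r) h1 }
  left_inv g := AlgHom.ext fun z => congrArg (fun f : CommRingCat.of B ⟶ CommRingCat.of C => f.hom z) (Spec.preimage_map _)
  right_inv m := Over.OverMorphism.ext (Spec.map_preimage m.left)

theorem natCard_points [IsAlgClosed Ω] [NeZero (N : Ω)] (hlam : algebraMap R Ω lam ≠ 0) :
    Nat.card (aff R Ω ⟶ GK R lam N h) = N := by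
  exact (Nat.card_congr (algHomEquiv _ _).symm).trans (natCard_algHom h hlam)

end Groth.Agent.SekSuwaLib
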