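import Groth.Agent.CechTorsorX.GLCocycle
import Groth.Agent.S1156
import Mathlib.LinearAlgebra.TensorProduct.Quotient
import Mathlib.RingTheory.Flat.TorsionFree
import Mathlib.Tactic.LinearCombination

/-!
# Hilbert 90 for congruence units
-/

set_option autoImplicit false
set_option backward.isDefEq.respectTransparency false
universe u

open scoped TensorProduct
open Groth.Agent.GmH1Lib.Hilbert90 Groth.Agent.CechTorsorX.GLCocycle

namespace Groth.Agent.SekSuwaLib.GLamH90

variable {R A : Type u} [CommRing R] [CommRing A] [Algebra R A] [Module.FaithfullyFlat R A]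

/-- Congruence descent: an element constant modulo `l` comes from the base modulo `l`. -/
theorem exists_const_mod (l : R) (m : A) (w : A ⊗[R] A)
    (h : m ⊗ₜ[R] (1 : A) - (1 : A) ⊗ₜ[R] m = l • w) : ∃ (c : R) (d : A), m = algebraMap R A c + l • d := by
  let I := Ideal.span {l}
  let one' : R ⧸ I := Ideal.Quotient.mk I 1
  let Φ : A ⊗[R] A →ₗ[R] A ⊗[R] (A ⊗[R] (R ⧸ I)) :=
    LinearMap.lTensor A ((TensorProduct.mk R A (R ⧸ I)).flip one')
  have hl : ∀ z : A ⊗[R] (A ⊗[R] (R ⧸ I)), l • z = 0 := by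
    intro z
    induction z using TensorProduct.induction_on with
    | zero => simp
    | add x y hx hy => rw [smul_add, hx, hy, add_zero]
    | tmul a y =>
      rw [← TensorProduct.tmul_smul]
      suffices e : l • y = 0 by rw [e, TensorProduct.tmul_zero]
      induction y using TensorProduct.induction_on with
      | zero => simp
      | add x y hx hy => rw [smul_add, hx, hy, add_zero]
      | tmul b r =>
        obtain ⟨r, rfl⟩ := Ideal.Quotient.mk_surjective r
        rw [← TensorProduct.tmul_smul, ← Ideal.Quotient.mkₐ_eq_mk R, ← map_smul, Ideal.Quotient.mkₐ_eq_mk,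
          Ideal.Quotient.eq_zero_iff_mem.2 (Ideal.mem_span_singleton'.2 ⟨r, by rw [smul_eq_mul, mul_comm]⟩),
          TensorProduct.tmul_zero]
  have hx : TensorProduct.mk R A (A ⊗[R] (R ⧸ I)) 1 (m ⊗ₜ[R] one') =
      LinearMap.lTensor A (TensorProduct.mk R A (R ⧸ I) 1) (m ⊗ₜ[R] one') := by
    have e := congrArg Φ h
    rw [map_sub, map_smul, hl, sub_eq_zero] at e
    simpa [Φ] using e.symm
  obtain ⟨cb, hcb⟩ := S1156.result R A (R ⧸ I) _ hx
  obtain ⟨c, rfl⟩ := Ideal.Quotient.mk_surjective cb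
  have e := congrArg (TensorProduct.tensorQuotEquivQuotSMul A I) hcb
  rw [TensorProduct.mk_apply, TensorProduct.tensorQuotEquivQuotSMul_tmul_mk,
    TensorProduct.tensorQuotEquivQuotSMul_tmul_mk, one_smul, Submodule.Quotient.eq] at e
  rw [Submodule.ideal_span_singleton_smul, Submodule.mem_smul_pointwise_iff_exists] at e
  obtain ⟨d, -, hd⟩ := e
  exact ⟨c, -d, by rw [smul_neg, hd, ← Algebra.algebraMap_eq_smul_one, neg_sub]; abel⟩

/-- A unit cocycle congruent to one modulo `l` is, locally on the base, the coboundary of a unit congruent to one. -/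
theorem exists_cong (l : R) (g : A ⊗[R] A) (hu : IsUnit (1 + l • g))
    (hc : p02 R A (1 + l • g) = p01 R A (1 + l • g) * p12 R A (1 + l • g)) (p : PrimeSpectrum R) :
    ∃ f : R, f ∉ p.asIdeal ∧ ∀ (Rf C : Type u) [CommRing Rf] [Algebra R Rf] [CommRing C] [Algebra R C]
      (ρ : Rf →ₐ[R] C) (ι₀ : A →ₐ[R] C), IsUnit (algebraMap R Rf f) →
      ∃ b : C, IsUnit (1 + l • b) ∧ (1 + l • (iL R C b : C ⊗[R] C)) =
        Algebra.TensorProduct.map ι₀ ι₀ (1 + l • g) * (1 + l • iR R C b) := by
  let M : Matrix (Fin 1) (Fin 1) (A ⊗[R] A) := Matrix.of fun _ _ => 1 + l • g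
  have hM : IsUnit M := (Matrix.isUnit_iff_isUnit_det _).2 (by rw [Matrix.det_fin_one]; exact hu)
  obtain ⟨f₀, hf₀, N, hN, k, b₀, hb₀⟩ := exists_matrix hM.unit (by
    ext i i'
    simpa [Matrix.mul_apply, M] using hc) p
  let m : A := N 0 0
  have hm : iL R A m = (1 + l • g) * iR R A m := by
    have hN' := congrFun₂ hN 0 0
    simpa [Matrix.mul_apply, M] using hN'
  rw [Matrix.det_fin_one] at hb₀
  -- a constant congruent to `m`
  obtain ⟨c, d, hcd, hcp⟩ : ∃ (c : R) (d : A), m = algebraMap R A c + l • d ∧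
      (l ∈ p.asIdeal → c ∉ p.asIdeal) := by
    obtain ⟨c, d, hcd⟩ := exists_const_mod l m (g * iR R A m) (by
      show iL R A m - iR R A m = _
      rw [hm, add_mul, one_mul, smul_mul_assoc, add_sub_cancel_left])
    refine ⟨c, d, hcd, fun hl hc' => hf₀ ?_⟩
    obtain ⟨q, rfl⟩ := PrimeSpectrum.comap_surjective_of_faithfullyFlat (B := A) p
    refine q.2.mem_of_pow_mem k (?_ : algebraMap R A f₀ ^ k ∈ q.asIdeal)
    rw [← hb₀]
    refine Ideal.mul_mem_right _ _ ?_
    rw [show N 0 0 = m from rfl, hcd, Algebra.smul_def]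
    exact q.asIdeal.add_mem hc' (Ideal.mul_mem_right _ _ hl)
  by_cases hl : l ∈ p.asIdeal
  · refine ⟨f₀ * c, fun h => (p.isPrime.mem_or_mem h).elim hf₀ (hcp hl), ?_⟩
    intro Rf C _ _ _ _ ρ ι₀ hf
    rw [map_mul, IsUnit.mul_iff] at hf
    obtain ⟨ci, hci⟩ := hf.2.exists_right_inv
    have hcC : algebraMap R C c * ρ ci = 1 := by rw [← ρ.commutes, ← map_mul, hci, map_one]
    refine ⟨ρ ci * ι₀ d, ?_⟩
    have hfac : ι₀ m = algebraMap R C c * (1 + l • (ρ ci * ι₀ d)) := by
      rw [hcd, map_add, AlgHom.commutes, map_smul, mul_add, mul_one, mul_smul_comm, ← mul_assoc, hcC, one_mul]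
    refine ⟨?_, ?_⟩
    · have : IsUnit (ι₀ (N 0 0 * b₀)) := by
        rw [hb₀, map_pow, AlgHom.commutes, ← ρ.commutes]; exact (hf.1.map ρ).pow k
      rw [map_mul, show N 0 0 = m from rfl, hfac] at this
      exact (IsUnit.mul_iff.1 (IsUnit.mul_iff.1 this).1).2
    · have h1 := congrArg (Algebra.TensorProduct.map ι₀ ι₀) hm
      rw [map_mul] at h1
      simp only [iL, iR, Algebra.TensorProduct.includeLeft_apply, Algebra.TensorProduct.includeRight_apply,
        Algebra.TensorProduct.map_tmul, map_one] at h1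
      change iL R C (ι₀ m) = _ * iR R C (ι₀ m) at h1
      rw [hfac] at h1
      simp only [Algebra.smul_def, map_mul, map_add, map_one, AlgHom.commutes] at h1
      have hu' : IsUnit (algebraMap R (C ⊗[R] C) c) :=
        IsUnit.of_mul_eq_one (iL R C (ρ ci)) (by rw [← (iL R C).commutes, ← map_mul, hcC, map_one])
      refine hu'.mul_left_cancel ?_
      simp only [Algebra.smul_def, map_mul, map_add, map_one, AlgHom.commutes]
      linear_combination h1
  · refine ⟨f₀ * l, fun h => (p.isPrime.mem_or_mem h).elim hf₀ hl, ?_⟩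
    intro Rf C _ _ _ _ ρ ι₀ hf
    rw [map_mul, IsUnit.mul_iff] at hf
    obtain ⟨li, hli⟩ := hf.2.exists_right_inv
    have hlC : algebraMap R C l * ρ li = 1 := by rw [← ρ.commutes, ← map_mul, hli, map_one]
    refine ⟨ρ li * (ι₀ m - 1), ?_⟩
    have hfac : 1 + l • (ρ li * (ι₀ m - 1)) = ι₀ m := by
      rw [Algebra.smul_def, ← mul_assoc, hlC, one_mul, add_sub_cancel]
    refine ⟨?_, ?_⟩
    · rw [hfac]
      have : IsUnit (ι₀ (N 0 0 * b₀)) := by
        rw [hb₀, map_pow, AlgHom.commutes, ← ρ.commutes]; exact (hf.1.map ρ).pow k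
      rw [map_mul] at this
      exact (IsUnit.mul_iff.1 this).1
    · have h1 := congrArg (Algebra.TensorProduct.map ι₀ ι₀) hm
      rw [map_mul] at h1
      simp only [iL, iR, Algebra.TensorProduct.includeLeft_apply, Algebra.TensorProduct.includeRight_apply,
        Algebra.TensorProduct.map_tmul, map_one] at h1
      change iL R C (ι₀ m) = _ * iR R C (ι₀ m) at h1
      rw [← hfac] at h1
      simp only [Algebra.smul_def, map_mul, map_add, map_one, AlgHom.commutes] at h1 ⊢
      linear_combination h1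

end Groth.Agent.SekSuwaLib.GLamH90
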