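import Groth.Agent.SekSuwaLib.Points
import Groth.Prelude.Def_ActBC

/-!
# Points of `G^(λ)` over a base change
-/

set_option autoImplicit false
set_option backward.isDefEq.respectTransparency.types false

universe u

open CategoryTheory MonoidalCategory CartesianMonoidalCategory MonObj AlgebraicGeometry Opposite Limits
open WithConv

namespace Groth.Agent.SekSuwaLib

variable {R : Type u} [CommRing R] {B : Type u} [CommRing B] [HopfAlgebra R B]
  {T T' : Over (Spec (CommRingCat.of R))}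

theorem ptRingHom_comp_left {C : Type u} [CommRing C] [Algebra R C] (v : T' ⟶ T) (x : T ⟶ aff R C) (b : C) :
    ptRingHom (v ≫ x) b = v.left.appTop (ptRingHom x b) := by
  have : (Scheme.ΓSpecIso (CommRingCat.of C)).inv ≫ (v ≫ x).left.appTop =
      ((Scheme.ΓSpecIso (CommRingCat.of C)).inv ≫ x.left.appTop) ≫ v.left.appTop := by
    rw [Over.comp_left, Scheme.Hom.comp_appTop, Category.assoc]
    rfl
  exact congrArg (fun ψ => ψ.hom b) this

theorem strHom_comp_left (v : T' ⟶ T) (r : R) : strHom T' r = v.left.appTop (strHom T r) := by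
  have : (Scheme.ΓSpecIso (CommRingCat.of R)).inv ≫ T'.hom.appTop =
      ((Scheme.ΓSpecIso (CommRingCat.of R)).inv ≫ T.hom.appTop) ≫ v.left.appTop := by
    rw [← Over.w v, Scheme.Hom.comp_appTop, Category.assoc]
  exact congrArg (fun ψ => ψ.hom r) this

/-- A group-like element is multiplicative on points. -/
theorem ptRingHom_mul_of_isGroupLike (x y : T ⟶ aff R B) {b : B} (hb : IsGroupLikeElem R b) :
    ptRingHom (x * y) b = ptRingHom x b * ptRingHom y b := by
  letI := algΓ T
  let φ : B →ₐ[R] Γ(T.left, ⊤) := { ptRingHom x with commutes' := ptRingHom_algebraMap x }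
  let ψ : B →ₐ[R] Γ(T.left, ⊤) := { ptRingHom y with commutes' := ptRingHom_algebraMap y }
  let s : T ⟶ aff R Γ(T.left, ⊤) := ofRingHom (RingHom.id _) fun r => rfl
  have key : ∀ (χ : B →ₐ[R] Γ(T.left, ⊤)) (c : B),
      ptRingHom (s ≫ Spec.mapMulEquiv (toConv χ)) c = χ c := by
    intro χ c
    rw [ptRingHom_comp s _ χ.toRingHom rfl, ptRingHom_ofRingHom]
    rfl
  have hx : s ≫ Spec.mapMulEquiv (toConv φ) = x := ptRingHom_injective (RingHom.ext fun c => key φ c)
  have hy : s ≫ Spec.mapMulEquiv (toConv ψ) = y := ptRingHom_injective (RingHom.ext fun c => key ψ c)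
  conv_lhs => rw [← hx, ← hy, ← MonObj.comp_mul, ← map_mul]
  rw [← toConv_ofConv (toConv φ * toConv ψ), key, AlgHom.convMul_apply, hb.comul_eq_tmul_self]
  simp [φ, ψ]

variable {lam : R}

theorem G_ext {x y : T ⟶ SekSuwa.G R lam} (h : ptRingHom x SekSuwa.A.t = ptRingHom y SekSuwa.A.t) : x = y := by
  letI := algΓ T
  let φ : SekSuwa.A R lam →ₐ[R] Γ(T.left, ⊤) := { ptRingHom x with commutes' := ptRingHom_algebraMap x }
  let ψ : SekSuwa.A R lam →ₐ[R] Γ(T.left, ⊤) := { ptRingHom y with commutes' := ptRingHom_algebraMap y }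
  have ht : φ SekSuwa.A.t = ψ SekSuwa.A.t := h
  refine ptRingHom_injective (congrArg AlgHom.toRingHom (SekSuwa.A.algHom_ext (f := φ) (g := ψ) ht ?_))
  have e1 := congrArg φ (SekSuwa.A.u_mul_inv (R := R) (lam := lam))
  have e2 := congrArg ψ (SekSuwa.A.u_mul_inv (R := R) (lam := lam))
  rw [map_mul, map_one, SekSuwa.A.u, map_add, map_one, map_smul] at e1 e2
  rw [ht] at e1
  exact left_inv_eq_right_inv (by rw [mul_comm]; exact e1) e2

theorem exists_G_pt (b : Γ(T.left, ⊤)) (hb : IsUnit (1 + strHom T lam * b)) :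
    ∃ x : T ⟶ SekSuwa.G R lam, ptRingHom x SekSuwa.A.t = b := by
  letI := algΓ T
  obtain ⟨c, hc⟩ := hb.exists_right_inv
  let φ : SekSuwa.A R lam →ₐ[R] Γ(T.left, ⊤) :=
    SekSuwa.A.lift (R := R) (lam := lam) b c (by rw [Algebra.smul_def]; exact hc)
  refine ⟨ofRingHom φ.toRingHom fun r => φ.commutes r, ?_⟩
  rw [ptRingHom_ofRingHom]
  exact SekSuwa.A.lift_t (R := R) (lam := lam) b c _

theorem ptRingHom_u (x : T ⟶ SekSuwa.G R lam) :
    ptRingHom x SekSuwa.A.u = 1 + strHom T lam * ptRingHom x SekSuwa.A.t := by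
  rw [SekSuwa.A.u_def, map_add, map_one, map_mul, ptRingHom_algebraMap]

section bc

variable {X : Scheme.{u}} (f : X ⟶ Spec (CommRingCat.of R))

/-- The coordinate of a point of the base change of `G^(λ)`. -/
noncomputable def tCoord {V : Over X} (x : V ⟶ Red.bc f (SekSuwa.G R lam)) : Γ(V.left, ⊤) :=
  ptRingHom (((Over.mapPullbackAdj f).homEquiv V (SekSuwa.G R lam)).symm x) SekSuwa.A.t

/-- The image of `λ` on a scheme over the base. -/
noncomputable def lamOn (lam : R) (V : Over X) : Γ(V.left, ⊤) := strHom ((Over.map f).obj V) lam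

theorem tCoord_comp {V V' : Over X} (v : V' ⟶ V) (x : V ⟶ Red.bc f (SekSuwa.G R lam)) :
    tCoord f (v ≫ x) = v.left.appTop (tCoord f x) := by
  rw [tCoord, Adjunction.homEquiv_naturality_left_symm, ptRingHom_comp_left]
  rfl

theorem lamOn_comp {V V' : Over X} (v : V' ⟶ V) : lamOn f lam V' = v.left.appTop (lamOn f lam V) :=
  strHom_comp_left ((Over.map f).map v) lam

theorem isUnit_coord {V : Over X} (x : V ⟶ Red.bc f (SekSuwa.G R lam)) :
    IsUnit (1 + lamOn f lam V * tCoord f x) := by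
  have h := (SekSuwa.A.isUnit_u (R := R) (lam := lam)).map
    (ptRingHom (((Over.mapPullbackAdj f).homEquiv V (SekSuwa.G R lam)).symm x))
  rw [ptRingHom_u] at h
  exact h

theorem coord_mul {V : Over X} (x y : V ⟶ Red.bc f (SekSuwa.G R lam)) :
    1 + lamOn f lam V * tCoord f (x * y) =
      (1 + lamOn f lam V * tCoord f x) * (1 + lamOn f lam V * tCoord f y) := by
  obtain ⟨a, rfl⟩ := ((Over.mapPullbackAdj f).homEquiv V (SekSuwa.G R lam)).surjective x
  obtain ⟨b, rfl⟩ := ((Over.mapPullbackAdj f).homEquiv V (SekSuwa.G R lam)).surjective y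
  have h := ptRingHom_mul_of_isGroupLike a b (SekSuwa.A.isGroupLikeElem_u (R := R) (lam := lam))
  rw [ptRingHom_u, ptRingHom_u, ptRingHom_u] at h
  simp only [tCoord, ← AlgGrp.Action.homEquiv_mul, Equiv.symm_apply_apply]
  exact h

theorem tCoord_injective {V : Over X} {x y : V ⟶ Red.bc f (SekSuwa.G R lam)} (h : tCoord f x = tCoord f y) :
    x = y :=
  ((Over.mapPullbackAdj f).homEquiv V (SekSuwa.G R lam)).symm.injective (G_ext h)

theorem exists_pt {V : Over X} (b : Γ(V.left, ⊤)) (hb : IsUnit (1 + lamOn f lam V * b)) :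
    ∃ x : V ⟶ Red.bc f (SekSuwa.G R lam), tCoord f x = b := by
  obtain ⟨x, hx⟩ := exists_G_pt (T := (Over.map f).obj V) b hb
  exact ⟨(Over.mapPullbackAdj f).homEquiv V (SekSuwa.G R lam) x, by rw [tCoord, Equiv.symm_apply_apply]; exact hx⟩

/-- `λ` is regular on flat schemes over the base. -/
theorem eq_zero_of_lamOn_mul [IsDomain R] (hlam : lam ≠ 0) {V : Over X} [Flat (V.hom ≫ f)] {z : Γ(V.left, ⊤)}
    (hz : lamOn f lam V * z = 0) : z = 0 := by
  haveI : Flat ((Over.map f).obj V).hom := ‹Flat (V.hom ≫ f)›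
  exact eq_zero_of_mul_eq_zero (T := (Over.map f).obj V) (mem_nonZeroDivisors_of_ne_zero hlam) hz

end bc

end Groth.Agent.SekSuwaLib
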