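import Groth.Agent.CechTorsorX.ZariskiTriv
import Groth.Agent.SekSuwaLib.GLamH90
import Groth.Agent.SekSuwaLib.GLamPts

/-!
# Hilbert 90 for `G^(λ)` over flat bases
-/

set_option autoImplicit false
set_option backward.isDefEq.respectTransparency false
set_option backward.isDefEq.respectTransparency.types false
set_option linter.style.haveILetI false
set_option synthInstance.maxHeartbeats 400000
universe u

open CategoryTheory CategoryTheory.Limits MonoidalCategory CartesianMonoidalCategory MonObj GrpObj AlgebraicGeometry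
open TensorProduct

noncomputable section

namespace Groth.Agent.SekSuwaLib.GLamTorsor

open Groth.Agent.GmH1Lib.Hilbert90 Groth.Agent.SchTorsor Groth.Agent.CechTorsorX.ZariskiTriv

variable {S : Scheme.{u}}

/-- Hilbert 90 for a group scheme over the affine schemes in a given class. -/
def LocalH90On (G : Over S) [GrpObj G] (Pj : ∀ (R : Type u) [CommRing R], (Spec (CommRingCat.of R) ⟶ S) → Prop) :
    Prop :=
  ∀ (R A : Type u) [CommRing R] [CommRing A] [Algebra R A] [Module.FaithfullyFlat R A]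
    (j : Spec (CommRingCat.of R) ⟶ S), Pj R j → ∀ (g : sp j (A ⊗[R] A) ⟶ G),
    sh (p02 R A) ≫ g = (sh (p01 R A) ≫ g) * (sh (p12 R A) ≫ g) →
    ∀ p : PrimeSpectrum R, ∃ f : R, f ∉ p.asIdeal ∧ ∃ b : sp j (CC R A f) ⟶ G,
      sh (B := CC R A f) (C := CC R A f ⊗[R] CC R A f) (cL R A f) ≫ b =
        (sh (B := A ⊗[R] A) (C := CC R A f ⊗[R] CC R A f)
            (Algebra.TensorProduct.map (cι R A f) (cι R A f)) ≫ g) *
          (sh (B := CC R A f) (C := CC R A f ⊗[R] CC R A f) (cR R A f) ≫ b)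

section

variable {G X Y : Over S} [GrpObj G]

/-- Torsors under a group with Hilbert 90 are Zariski locally trivial. -/
theorem isLocallyTrivial_of_localH90On {Pj : ∀ (R : Type u) [CommRing R], (Spec (CommRingCat.of R) ⟶ S) → Prop}
    (hG : LocalH90On G Pj)
    (hPj : ∀ (R : Type u) [CommRing R] (v : Spec (CommRingCat.of R) ⟶ Y.left), IsOpenImmersion v → Pj R (v ≫ Y.hom)) (a : AlgGrp.Action G X) (φ : X ⟶ Y)
    (hinv : a.act ≫ φ = snd G X ≫ φ)
    (hdiv : ∀ (T : Over S) (x y : T ⟶ X), x ≫ φ = y ≫ φ → ∃ g : T ⟶ G, lift g y ≫ a.act = x)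
    (hfree : ∀ (T : Over S) (g h : T ⟶ G) (y : T ⟶ X), lift g y ≫ a.act = lift h y ≫ a.act → g = h)
    (hloc : NonAbH1.IsLocallyTrivialFor Scheme.fpqcPrecoverage (Over.mk φ.left : Over Y.left)) :
    NonAbH1.IsLocallyTrivialFor Scheme.zariskiPrecoverage (Over.mk φ.left : Over Y.left) := by
  have key : ∀ y : Y.left, ∃ (V : Scheme.{u}) (v : V ⟶ Y.left), IsOpenImmersion v ∧ y ∈ Set.range v.base ∧
      NonAbH1.HasSectionOver (Over.mk φ.left : Over Y.left) v := by
    intro y
    obtain ⟨i, y₀, hy₀⟩ := Y.left.affineCover.exists_eq y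
    let V := Y.left.affineCover.X i
    let R := Γ(V, ⊤)
    let v : Spec R ⟶ Y.left := V.isoSpec.inv ≫ Y.left.affineCover.f i
    obtain ⟨p₀, hp₀⟩ : ∃ p₀, v.base p₀ = y := ⟨V.isoSpec.hom.base y₀, by
      rw [← Scheme.Hom.comp_apply, Iso.hom_inv_id_assoc]; exact hy₀⟩
    obtain ⟨Z, p, hp1, hp2, hp3, s₀, hs₀⟩ := exists_single hloc v
    haveI := hp1; haveI := hp2; haveI := hp3
    obtain ⟨A, _, _, q, hA, hq⟩ := exists_ff_algebra p
    haveI := hA
    let j : Spec (CommRingCat.of R) ⟶ S := v ≫ Y.hom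
    let hh : ∀ (B : Type u) [CommRing B] [Algebra R B], sp j B ⟶ Y := fun B _ _ =>
      Over.homMk (Spec.map (CommRingCat.ofHom (algebraMap R B)) ≫ v) (Category.assoc _ _ _)
    have hhh : ∀ {B C : Type u} [CommRing B] [CommRing C] [Algebra R B] [Algebra R C] (h : B →ₐ[R] C),
        sh (j := j) h ≫ hh B = hh C := fun {B C} _ _ _ _ h => by
      ext1
      show Spec.map _ ≫ Spec.map _ ≫ v = Spec.map _ ≫ v
      rw [← Category.assoc, ← Spec.map_comp, ← CommRingCat.ofHom_comp]
      rw [show h.toRingHom.comp (algebraMap R B) = algebraMap R C from h.comp_algebraMap]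
    have hs₁ : (q ≫ s₀) ≫ φ.left = Spec.map (CommRingCat.ofHom (algebraMap R A)) ≫ v := by
      rw [← hq, Category.assoc, Category.assoc]
      exact congrArg (q ≫ ·) hs₀
    let s : sp j A ⟶ X := Over.homMk (q ≫ s₀) (by
      show (q ≫ s₀) ≫ X.hom = Spec.map _ ≫ v ≫ Y.hom
      rw [← Over.w φ, ← Category.assoc _ φ.left, hs₁, Category.assoc])
    have hs : s ≫ φ = hh A := Over.OverMorphism.ext hs₁
    obtain ⟨g, hg⟩ := hdiv (sp j (A ⊗[R] A))
      (sh (Algebra.TensorProduct.includeLeft : A →ₐ[R] A ⊗[R] A) ≫ s)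
      (sh (Algebra.TensorProduct.includeRight : A →ₐ[R] A ⊗[R] A) ≫ s)
      (by rw [Category.assoc, Category.assoc, hs, hhh, hhh])
    -- pullback of the defining equation
    have hrel : ∀ {B : Type u} [CommRing B] [Algebra R B] (h : A ⊗[R] A →ₐ[R] B),
        lift (sh (j := j) h ≫ g) (sh (h.comp Algebra.TensorProduct.includeRight) ≫ s) ≫ a.act =
          sh (h.comp Algebra.TensorProduct.includeLeft) ≫ s := fun {B} _ _ h => by
      have := congrArg (sh (j := j) h ≫ ·) hg
      simp only [comp_lift_assoc] at this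
      rw [← Category.assoc (sh h), sh_comp, ← Category.assoc (sh h) (sh _) s, sh_comp] at this
      exact this
    have hc : sh (p02 R A) ≫ g = (sh (p01 R A) ≫ g) * (sh (p12 R A) ≫ g) := by
      refine hfree _ _ _ (sh ((p12 R A).comp Algebra.TensorProduct.includeRight) ≫ s) ?_
      rw [act_assoc, hrel (p12 R A)]
      have e1 : (p02 R A).comp Algebra.TensorProduct.includeRight =
          (p12 R A).comp Algebra.TensorProduct.includeRight := by ext x; simp
      have e2 : (p01 R A).comp Algebra.TensorProduct.includeRight =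
          (p12 R A).comp Algebra.TensorProduct.includeLeft := by ext x; simp
      have e3 : (p02 R A).comp Algebra.TensorProduct.includeLeft =
          (p01 R A).comp Algebra.TensorProduct.includeLeft := by ext x; simp
      rw [← e1, hrel (p02 R A), ← e2, hrel (p01 R A), e3]
    obtain ⟨f, hf, b, hb⟩ := hG R A j (hPj R v (show IsOpenImmersion (V.isoSpec.inv ≫ Y.left.affineCover.f i) from inferInstance)) g hc p₀
    let C := CC R A f
    let ι₀ : A →ₐ[R] C := cι R A f
    let t : sp j C ⟶ X := lift b⁻¹ (sh ι₀ ≫ s) ≫ a.act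
    have htφ : t ≫ φ = hh C := by
      rw [Category.assoc, hinv, lift_snd_assoc, Category.assoc, hs, hhh]
    let iL : C →ₐ[R] C ⊗[R] C := cL R A f
    let iR : C →ₐ[R] C ⊗[R] C := cR R A f
    have ht : sh (j := j) (B := C) (C := C ⊗[R] C) iL ≫ t = sh (j := j) (B := C) (C := C ⊗[R] C) iR ≫ t := by
      have hm := hrel (B := C ⊗[R] C) (Algebra.TensorProduct.map ι₀ ι₀)
      rw [show (Algebra.TensorProduct.map ι₀ ι₀).comp Algebra.TensorProduct.includeRight = iR.comp ι₀ by
          ext x; rfl,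
        show (Algebra.TensorProduct.map ι₀ ι₀).comp Algebra.TensorProduct.includeLeft = iL.comp ι₀ by
          ext x; rfl] at hm
      simp only [t, comp_lift_assoc, GrpObj.comp_inv]
      rw [← Category.assoc (sh (B := C) (C := C ⊗[R] C) iL) (sh ι₀), ← Category.assoc (sh (B := C) (C := C ⊗[R] C) iR) (sh ι₀),
        sh_comp, sh_comp, hb,
        _root_.mul_inv_rev, act_assoc, ← hm]
      congr 2
      rw [← act_assoc, inv_mul_cancel, one_act_pt]
    obtain ⟨σ, hσ⟩ := exists_desc (R := R) (A := A) f t.left (congrArg CommaMorphism.left ht)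
    let c := Spec.map (CommRingCat.ofHom (algebraMap R (Localization.Away f)))
    refine ⟨_, c ≫ v, inferInstance, ?_, σ, ?_⟩
    · obtain ⟨q', hq'⟩ : p₀ ∈ Set.range (PrimeSpectrum.comap (algebraMap R (Localization.Away f))) := by
        rw [PrimeSpectrum.localization_away_comap_range (Localization.Away f) f]
        exact hf
      exact ⟨q', by rw [Scheme.Hom.comp_apply]; exact (congrArg v.base hq').trans hp₀⟩
    · let π := Spec.map (CommRingCat.ofHom (algebraMap (Localization.Away f) C))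
      haveI : Surjective π := ⟨PrimeSpectrum.comap_surjective_of_faithfullyFlat⟩
      haveI : Flat π := (HasRingHomProperty.Spec_iff (P := @Flat)).2 (RingHom.flat_algebraMap_iff.2 inferInstance)
      haveI : Epi π := Flat.epi_of_flat_of_surjective π
      show σ ≫ φ.left = c ≫ v
      rw [← cancel_epi π, ← Category.assoc, hσ]
      refine (congrArg CommaMorphism.left htφ).trans ?_
      have hcπ : Spec.map (CommRingCat.ofHom (algebraMap R C)) = π ≫ c := by
        rw [← Spec.map_comp, ← CommRingCat.ofHom_comp, ← IsScalarTower.algebraMap_eq]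
      exact (congrArg (· ≫ v) hcπ).trans (Category.assoc _ _ _)
  choose V v hv hy hsec using key
  refine ⟨Presieve.ofArrows V v, (Scheme.ofArrows_mem_precoverage_iff _).2 ⟨fun y => ⟨y, hy y⟩, hv⟩, ?_⟩
  rintro _ _ ⟨y⟩
  exact hsec y

end

section coord

open Groth.Agent.SekSuwaLib

variable {R₀ : Type u} [CommRing R₀] {X : Scheme.{u}} (f : X ⟶ Spec (CommRingCat.of R₀)) {lam : R₀}
  {R B C : Type u} [CommRing R] [CommRing B] [CommRing C] [Algebra R B] [Algebra R C]
  {j : Spec (CommRingCat.of R) ⟶ X}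

/-- Functions on the spectrum. -/
abbrev fn (j : Spec (CommRingCat.of R) ⟶ X) (B : Type u) [CommRing B] [Algebra R B] :
    Γ((sp j B).left, ⊤) →+* B := (Scheme.ΓSpecIso (CommRingCat.of B)).hom.hom

theorem fn_injective : Function.Injective (fn j B) :=
  (Scheme.ΓSpecIso (CommRingCat.of B)).commRingCatIsoToRingEquiv.injective

theorem fn_surjective : Function.Surjective (fn j B) :=
  (Scheme.ΓSpecIso (CommRingCat.of B)).commRingCatIsoToRingEquiv.surjective

theorem fn_sh (h : B →ₐ[R] C) (z : Γ((sp j B).left, ⊤)) :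
    fn j C ((sh (j := j) h).left.appTop z) = h (fn j B z) :=
  congrArg (fun ψ => (ConcreteCategory.hom ψ) z) (Scheme.ΓSpecIso_naturality (CommRingCat.ofHom h.toRingHom))

/-- The value of `λ` on the affine base. -/
def lv (lam : R₀) (j : Spec (CommRingCat.of R) ⟶ X) : R :=
  (Scheme.ΓSpecIso (CommRingCat.of R)).hom (lamOn f lam (Over.mk j))

theorem fn_lamOn : fn j B (lamOn f lam (sp j B)) = algebraMap R B (lv f lam j) := by
  let π : sp j B ⟶ Over.mk j := Over.homMk (Spec.map (CommRingCat.ofHom (algebraMap R B))) rfl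
  rw [lamOn_comp f π]
  exact congrArg (fun ψ => (ConcreteCategory.hom ψ) (lamOn f lam (Over.mk j)))
    (Scheme.ΓSpecIso_naturality (CommRingCat.ofHom (algebraMap R B)))

/-- The coordinate in the algebra. -/
def tv (x : sp j B ⟶ Red.bc f (SekSuwa.G R₀ lam)) : B := fn j B (tCoord f x)

theorem tv_sh (h : B →ₐ[R] C) (x : sp j B ⟶ Red.bc f (SekSuwa.G R₀ lam)) :
    tv f (sh h ≫ x) = h (tv f x) := by
  rw [tv, tCoord_comp]; exact fn_sh h _

theorem tv_unit (x : sp j B ⟶ Red.bc f (SekSuwa.G R₀ lam)) : IsUnit (1 + lv f lam j • tv f x) := by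
  have h := (isUnit_coord f x).map (fn j B)
  rwa [map_add, map_one, map_mul, fn_lamOn, ← Algebra.smul_def] at h

theorem tv_mul (x y : sp j B ⟶ Red.bc f (SekSuwa.G R₀ lam)) :
    1 + lv f lam j • tv f (x * y) = (1 + lv f lam j • tv f x) * (1 + lv f lam j • tv f y) := by
  have h := congrArg (fn j B) (coord_mul f x y)
  simp only [map_add, map_one, map_mul, fn_lamOn, ← Algebra.smul_def] at h
  exact h

theorem exists_tv (b : B) (hb : IsUnit (1 + lv f lam j • b)) :
    ∃ x : sp j B ⟶ Red.bc f (SekSuwa.G R₀ lam), tv f x = b := by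
  obtain ⟨z, rfl⟩ := fn_surjective (j := j) b
  obtain ⟨x, hx⟩ := exists_pt f (lam := lam) (V := sp j B) z (by
    refine (isUnit_map_iff (Scheme.ΓSpecIso (CommRingCat.of B)).commRingCatIsoToRingEquiv _).1 ?_
    show IsUnit (fn j B _)
    rwa [map_add, map_one, map_mul, fn_lamOn, ← Algebra.smul_def])
  exact ⟨x, by rw [tv, hx]⟩

theorem tv_injective {x y : sp j B ⟶ Red.bc f (SekSuwa.G R₀ lam)} (h : tv f x = tv f y) : x = y :=
  tCoord_injective f (fn_injective h)

theorem eq_zero_of_lv_smul [IsDomain R₀] (hlam : lam ≠ 0) [Flat (j ≫ f)] [Module.Flat R B] {z : B}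
    (hz : lv f lam j • z = 0) : z = 0 := by
  obtain ⟨w, rfl⟩ := fn_surjective (j := j) z
  haveI : Flat (Spec.map (CommRingCat.ofHom (algebraMap R B))) :=
    (HasRingHomProperty.Spec_iff (P := @Flat)).2 (RingHom.flat_algebraMap_iff.2 inferInstance)
  haveI : Flat ((sp j B).hom ≫ f) := by
    show Flat ((Spec.map _ ≫ j) ≫ f)
    rw [Category.assoc]
    infer_instance
  rw [eq_zero_of_lamOn_mul f hlam (V := sp j B) (z := w) (fn_injective (by
    rw [map_mul, fn_lamOn, ← Algebra.smul_def, hz, map_zero])), map_zero]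

theorem eq_mul_of_coord [IsDomain R₀] (hlam : lam ≠ 0) [Flat (j ≫ f)] [Module.Flat R B]
    {x y z : sp j B ⟶ Red.bc f (SekSuwa.G R₀ lam)}
    (h : 1 + lv f lam j • tv f x = (1 + lv f lam j • tv f y) * (1 + lv f lam j • tv f z)) : x = y * z := by
  rw [← tv_mul] at h
  exact tv_injective f (sub_eq_zero.1 (eq_zero_of_lv_smul f (j := j) hlam (by
    rw [smul_sub, sub_eq_zero]
    exact add_left_cancel h)))

/-- Hilbert 90 for `G^(λ)` over flat affine schemes. -/
theorem localH90On [IsDomain R₀] (hlam : lam ≠ 0) :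
    LocalH90On (Red.bc f (SekSuwa.G R₀ lam)) (fun _ _ j => Flat (j ≫ f)) := by
  intro R A _ _ _ _ j hj g hc p
  haveI : Flat (j ≫ f) := hj
  have hc' : p02 R A (1 + lv f lam j • tv f g) =
      p01 R A (1 + lv f lam j • tv f g) * p12 R A (1 + lv f lam j • tv f g) := by
    rw [map_add, map_add, map_add, map_one, map_one, map_one, map_smul, map_smul, map_smul,
      ← tv_sh, ← tv_sh, ← tv_sh, hc, tv_mul]
  obtain ⟨f₀, hf₀, H⟩ := GLamH90.exists_cong (lv f lam j) (tv f g) (tv_unit f g) hc' p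
  refine ⟨f₀, hf₀, ?_⟩
  obtain ⟨b, hb, e⟩ := H (Localization.Away f₀) (CC R A f₀) Algebra.TensorProduct.includeLeft (cι R A f₀)
    (IsLocalization.Away.algebraMap_isUnit f₀)
  obtain ⟨x, hx⟩ := exists_tv f b hb
  haveI : Module.Flat R (CC R A f₀) := inferInstance
  refine ⟨x, eq_mul_of_coord f (B := CC R A f₀ ⊗[R] CC R A f₀) (j := j) hlam ?_⟩
  rw [tv_sh, tv_sh, tv_sh, hx]
  rw [map_add, map_one, map_smul] at e
  exact e

end coord

end Groth.Agent.SekSuwaLib.GLamTorsor
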