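import Groth.Prelude.Def_SekSuwa2
import Mathlib.RingTheory.Bialgebra.TensorProduct
import Mathlib.RingTheory.Coalgebra.GroupLike
import Mathlib.RingTheory.HopfAlgebra.GroupLike
import Mathlib.RingTheory.IntegralClosure.IntegrallyClosed
import Mathlib.RingTheory.DiscreteValuationRing.Basic
import Mathlib.LinearAlgebra.Determinant
import Mathlib.LinearAlgebra.Dimension.OrzechProperty
import Mathlib.RingTheory.TensorProduct.Free
import Mathlib.Algebra.CharP.Lemmas

/-! Hopf orders of prime rank with split generic fibre are the algebras of the groups `G_{λ,1}`. -/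

universe u v

open TensorProduct WithConv
open scoped Polynomial

namespace Groth.Agent.SekSuwaLib

set_option linter.style.haveILetI false

section Field

variable {k : Type u} [Field k] {H : Type v} [CommRing H] [Bialgebra k H]

/-- The powers of an element with the law `z ⊗ 1 + 1 ⊗ z + c z ⊗ z` are independent below the prime. -/
theorem linearIndependent_pow_of_law [Nontrivial H] (p : ℕ) [hp : Fact p.Prime] (c : k) (z : H)
    (hz : z ≠ 0) (hcz : Coalgebra.counit (R := k) z = 0)
    (hΔ : Coalgebra.comul (R := k) z = z ⊗ₜ[k] (1 : H) + (1 : H) ⊗ₜ[k] z + c • (z ⊗ₜ[k] z))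
    (hu : (1 + c • z) ^ p = 1) (hchar : c = 0 → (p : k) = 0) :
    LinearIndependent k fun i : Fin p => z ^ (i : ℕ) := by
  classical
  by_cases hc : c = 0
  · subst hc
    rw [zero_smul, add_zero] at hΔ
    haveI : CharP k p := CharP.charP_iff_prime_eq_zero hp.out |>.mpr (hchar rfl)
    suffices h : ∀ d, d ≤ p → LinearIndependent k fun i : Fin d => z ^ (i : ℕ) from h p le_rfl
    intro d hd
    induction d with
    | zero => exact linearIndependent_empty_type
    | succ d ih =>
      have hli := ih (Nat.le_of_succ_le hd)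
      rw [linearIndependent_finSucc']
      refine ⟨hli, fun hmem => ?_⟩
      simp only [Fin.val_last] at hmem
      obtain ⟨a, ha⟩ := (Submodule.mem_span_range_iff_exists_fun k).mp hmem
      change ∑ i : Fin d, a i • z ^ (i : ℕ) = z ^ d at ha
      have hzero : (Finset.univ : Finset (Fin d)) = ∅ ∨ 0 < d := by
        rcases Nat.eq_zero_or_pos d with rfl | h
        · exact Or.inl (Finset.eq_empty_of_forall_notMem fun i => i.elim0)
        · exact Or.inr h
      have hd0 : 0 < d := hzero.resolve_left fun h => by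
        have : d = 0 := by simpa using congrArg Finset.card h
        subst this
        rw [Finset.univ_eq_empty, Finset.sum_empty, pow_zero] at ha
        exact zero_ne_one ha
      by_cases hd1 : d = 1
      · subst hd1
        simp only [Fin.sum_univ_one, Fin.val_zero, pow_zero, pow_one] at ha
        have h1 := congrArg (Coalgebra.counit (R := k)) ha
        rw [map_smul, Bialgebra.counit_one, hcz, smul_eq_mul, mul_one] at h1
        rw [h1, zero_smul] at ha
        exact hz ha.symm
      obtain ⟨φ, hφ⟩ : ∃ φ : ℕ → H →ₗ[k] k, ∀ i j : ℕ, i < d → j < d → φ i (z ^ j) = if j = i then 1 else 0 := by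
        obtain ⟨g, hg⟩ := LinearMap.exists_leftInverse_of_injective (Finsupp.linearCombination k fun i : Fin d => z ^ (i : ℕ))
          (LinearMap.ker_eq_bot.mpr hli)
        refine ⟨fun i => if h : i < d then Finsupp.lapply ⟨i, h⟩ ∘ₗ g else 0, fun i j hi hj => ?_⟩
        have h1 := LinearMap.congr_fun hg (Finsupp.single (⟨j, hj⟩ : Fin d) (1 : k))
        simp only [LinearMap.comp_apply, LinearMap.id_apply, Finsupp.linearCombination_single, one_smul] at h1
        simp only [dif_pos hi, LinearMap.comp_apply, Finsupp.lapply_apply, h1, Finsupp.single_apply, Fin.mk.injEq]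
      let Φ : H ⊗[k] H →ₗ[k] k := LinearMap.mul' k k ∘ₗ TensorProduct.map (φ (d - 1)) (φ 1)
      have hpow : ∀ i : ℕ, Φ (Coalgebra.comul (R := k) (z ^ i)) =
          ∑ j ∈ Finset.range (i + 1), (i.choose j : k) * (φ (d - 1) (z ^ j) * φ 1 (z ^ (i - j))) := by
        intro i
        have : Coalgebra.comul (R := k) (z ^ i) = (z ⊗ₜ[k] (1 : H) + (1 : H) ⊗ₜ[k] z) ^ i := by
          rw [← hΔ]; exact map_pow (Bialgebra.comulAlgHom k H) z i
        rw [this, add_pow, map_sum]
        refine Finset.sum_congr rfl fun j _ => ?_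
        rw [Algebra.TensorProduct.tmul_pow, Algebra.TensorProduct.tmul_pow, one_pow, one_pow,
          Algebra.TensorProduct.tmul_mul_tmul, mul_one, one_mul]
        rw [show ((z ^ j) ⊗ₜ[k] (z ^ (i - j))) * ((i.choose j : ℕ) : H ⊗[k] H) = (i.choose j : k) • ((z ^ j) ⊗ₜ[k] (z ^ (i - j))) by
          rw [Algebra.smul_def, mul_comm, map_natCast], map_smul]
        simp [Φ]
      have hlow : ∀ i, i < d → Φ (Coalgebra.comul (R := k) (z ^ i)) = 0 := fun i hi => by
        rw [hpow]
        refine Finset.sum_eq_zero fun j hj => ?_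
        rw [Finset.mem_range] at hj
        rw [hφ _ j (by omega) (by omega), hφ _ (i - j) (by omega) (by omega)]
        split_ifs <;> first | (exfalso; omega) | simp
      have htop : Φ (Coalgebra.comul (R := k) (z ^ d)) = (d : k) := by
        rw [hpow, Finset.sum_eq_single (d - 1)]
        · rw [show d - (d - 1) = 1 by omega, hφ _ (d - 1) (by omega) (by omega), hφ _ 1 (by omega) (by omega),
            if_pos rfl, if_pos rfl, mul_one, mul_one]
          obtain ⟨e, rfl⟩ : ∃ e, d = e + 1 := ⟨d - 1, by omega⟩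
          simp [Nat.choose_succ_self_right]
        · intro j hj hne
          rw [Finset.mem_range] at hj
          by_cases hjd : j = d
          · subst hjd
            rw [Nat.sub_self, hφ 1 0 (by omega) (by omega), if_neg (by omega), mul_zero, mul_zero]
          · rw [hφ _ j (by omega) (by omega), if_neg hne, zero_mul, mul_zero]
        · intro h
          exact absurd (Finset.mem_range.mpr (by omega)) h
      have hd' : (d : k) = 0 := by
        rw [← htop, ← ha, map_sum, map_sum]
        exact Finset.sum_eq_zero fun i _ => by rw [map_smul, map_smul, hlow i i.2, smul_zero]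
      have := Nat.le_of_dvd hd0 ((CharP.cast_eq_zero_iff k p d).mp hd')
      omega
  · set u : H := 1 + c • z with hudef
    have hgl : IsGroupLikeElem k u := by
      refine ⟨by rw [hudef, map_add, map_smul, Bialgebra.counit_one, hcz, smul_zero, add_zero], ?_⟩
      rw [hudef, map_add, map_smul, Bialgebra.comul_one, hΔ, Algebra.TensorProduct.one_def]
      simp only [smul_add, TensorProduct.add_tmul, TensorProduct.tmul_add, TensorProduct.smul_tmul', TensorProduct.tmul_smul, smul_smul]
      abel
    have hu1 : u ≠ 1 := fun h => hz <| by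
      have : c • z = 0 := by rwa [hudef, add_eq_left] at h
      exact (smul_eq_zero.mp this).resolve_left hc
    have hord : orderOf u = p := orderOf_eq_prime hu hu1
    have hli : LinearIndependent k fun i : Fin p => u ^ (i : ℕ) := by
      refine (linearIndepOn_isGroupLikeElem (R := k) (A := H)).comp
        (fun i : Fin p => ⟨u ^ (i : ℕ), hgl.pow⟩) fun i j h => ?_
      exact Fin.ext (pow_injOn_Iio_orderOf (by rw [hord]; exact i.2) (by rw [hord]; exact j.2)
        (congrArg Subtype.val h))
    rw [linearIndependent_iff_card_le_finrank_span]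
    have hle : Submodule.span k (Set.range fun i : Fin p => u ^ (i : ℕ)) ≤
        Submodule.span k (Set.range fun i : Fin p => z ^ (i : ℕ)) := by
      rw [Submodule.span_le]
      rintro _ ⟨i, rfl⟩
      show u ^ (i : ℕ) ∈ Submodule.span k _
      rw [hudef, add_comm, add_pow]
      refine Submodule.sum_mem _ fun j hj => ?_
      rw [Finset.mem_range] at hj
      rw [smul_pow, one_pow, mul_one, smul_mul_assoc, mul_comm, ← nsmul_eq_mul, smul_comm]
      refine nsmul_mem ?_ _
      exact Submodule.smul_mem _ _ (Submodule.subset_span (Set.mem_range.mpr ⟨(⟨j, lt_of_lt_of_le hj i.2⟩ : Fin p), rfl⟩))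
    have : FiniteDimensional k (Submodule.span k (Set.range fun i : Fin p => z ^ (i : ℕ))) :=
      FiniteDimensional.span_of_finite k (Set.finite_range _)
    refine le_trans (le_of_eq ?_) (Submodule.finrank_mono hle)
    exact (finrank_span_eq_card hli).symm

end Field

variable {R : Type u} [CommRing R] [IsDomain R] [IsDiscreteValuationRing R]

/-- A non-trivial character of order `p` of a finite free Hopf algebra gives a morphism to some `G_{λ,1}`. -/
theorem exists_bialgHom_AK {ι : Type*} [Fintype ι] [DecidableEq ι] {A : Type u} [CommRing A] [HopfAlgebra R A] (p : ℕ)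
    [hp : Fact p.Prime] [CharP (IsLocalRing.ResidueField R) p] (b : Module.Basis ι R A) (t : A) (htp : t ^ p = 1)
    (ht1 : t ≠ 1) (ht : IsGroupLikeElem R t) (hp0 : (p : R) ≠ 0) :
    ∃ (lam : R) (h : SekSuwa.DivCond lam p) (F : SekSuwa.AK R lam p h →ₐc[R] A), lam ≠ 0 ∧
      1 + lam • F SekSuwa.AK.t = t ∧
      LinearIndependent (IsLocalRing.ResidueField R)
        fun i : Fin p => ((1 : IsLocalRing.ResidueField R) ⊗ₜ[R] F SekSuwa.AK.t) ^ (i : ℕ) := by
  classical
  haveI : Nontrivial A := nontrivial_of_ne t 1 ht1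
  have hb0 : b.repr (t - 1) ≠ 0 := fun h => ht1 (sub_eq_zero.mp (b.repr.map_eq_zero_iff.mp h))
  let J : Ideal R := Ideal.span (Set.range fun i => b.repr (t - 1) i)
  obtain ⟨lam, hJ⟩ := (IsPrincipalIdealRing.principal J).principal
  have hdiv : ∀ i, ∃ r, b.repr (t - 1) i = lam * r := fun i => by
    have : b.repr (t - 1) i ∈ J := Ideal.subset_span ⟨i, rfl⟩
    rw [hJ] at this
    exact (Ideal.mem_span_singleton'.mp this).imp fun r hr => by rw [← hr, mul_comm]
  choose ys hys using hdiv
  have hlam : lam ≠ 0 := fun h => hb0 (Finsupp.ext fun i => by rw [hys, h, zero_mul]; rfl)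
  set y : A := b.equivFun.symm ys with hy
  have hty : t - 1 = lam • y := b.equivFun.injective (funext fun i => by
    rw [Module.Basis.equivFun_apply, hys, map_smul, hy, LinearEquiv.apply_symm_apply]
    rfl)
  have ht' : t = 1 + lam • y := by rw [← hty, add_sub_cancel]
  have hyu : ∃ i, IsUnit (ys i) := by
    by_contra hall
    push Not at hall
    have h1 : lam ∈ J := hJ ▸ Submodule.mem_span_singleton_self lam
    obtain ⟨x, hx⟩ := (Ideal.mem_span_range_iff_exists_fun).mp h1
    have h2 : (1 : R) = ∑ i, x i * ys i := mul_left_cancel₀ hlam (by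
      rw [mul_one, Finset.mul_sum]
      conv_lhs => rw [← hx]
      exact Finset.sum_congr rfl fun i _ => by rw [hys]; ring)
    have h3 : (1 : R) ∈ IsLocalRing.maximalIdeal R := h2 ▸ Ideal.sum_mem _ fun i _ =>
      Ideal.mul_mem_left _ _ (by rw [IsLocalRing.mem_maximalIdeal]; exact hall i)
    exact (IsLocalRing.mem_maximalIdeal 1).mp h3 isUnit_one
  haveI : Module.Free R A := Module.Free.of_basis b
  have htf : ∀ {r : R} {a a' : A}, r ≠ 0 → r • a = r • a' → a = a' := fun hr h =>
    b.equivFun.injective (funext fun i => mul_left_cancel₀ hr (by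
      simpa [map_smul] using congrFun (congrArg b.equivFun h) i))
  have htf2 : ∀ {r : R} {a a' : A ⊗[R] A}, r ≠ 0 → r • a = r • a' → a = a' := fun hr h =>
    (b.tensorProduct b).repr.injective (Finsupp.ext fun i => mul_left_cancel₀ hr (by
      simpa [map_smul] using DFunLike.congr_fun (congrArg (b.tensorProduct b).repr h) i))
  have hcy : Coalgebra.counit (R := R) y = 0 := mul_left_cancel₀ hlam (by
    rw [mul_zero, ← smul_eq_mul, ← map_smul, ← hty, map_sub, ht.counit_eq_one, Bialgebra.counit_one, sub_self])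
  have hΔy : Coalgebra.comul (R := R) y = y ⊗ₜ[R] (1 : A) + (1 : A) ⊗ₜ[R] y + lam • (y ⊗ₜ[R] y) := htf2 hlam (by
    rw [← map_smul, ← hty, map_sub, ht.comul_eq_tmul_self, Bialgebra.comul_one, Algebra.TensorProduct.one_def, ht']
    simp only [smul_add, TensorProduct.add_tmul, TensorProduct.tmul_add, TensorProduct.smul_tmul', TensorProduct.tmul_smul, smul_smul]
    abel)
  -- the residual algebra
  let k := IsLocalRing.ResidueField R
  let bk : Module.Basis ι k (k ⊗[R] A) := b.baseChange k
  have hrepr : ∀ (a : A) i, bk.repr ((1 : k) ⊗ₜ[R] a) i = algebraMap R k (b.repr a i) := fun a i => by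
    rw [Module.Basis.baseChange_repr_tmul, Algebra.smul_def, mul_one]
  haveI : Nonempty ι := b.index_nonempty
  haveI : Nontrivial (k ⊗[R] A) := bk.repr.toEquiv.nontrivial
  have hyk : (1 : k) ⊗ₜ[R] y ≠ (0 : k ⊗[R] A) := fun h => by
    obtain ⟨i, hi⟩ := hyu
    refine (hi.map (algebraMap R k)).ne_zero ?_
    have := hrepr y i
    rw [h, map_zero, Finsupp.zero_apply, hy, ← Module.Basis.equivFun_apply, LinearEquiv.apply_symm_apply] at this
    exact this.symm
  have hres : ∀ r : R, r ∈ IsLocalRing.maximalIdeal R → algebraMap R k r = 0 := fun r hr => by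
    rw [IsLocalRing.ResidueField.algebraMap_eq]; exact Ideal.Quotient.eq_zero_iff_mem.mpr hr
  -- the divisibility condition
  have hSum : ∀ {B : Type u} [CommRing B] [Algebra R B] (a : B),
      (1 + lam • a) ^ p = 1 + lam ^ p • a ^ p + (p : R) • lam • (a * ∑ j ∈ Finset.Ioo 0 p,
        (lam • a) ^ (j - 1) * (1 : B) ^ (p - j - 1) * ((p.choose j / p : ℕ) : B)) := fun {B} _ _ a => by
    rw [add_comm, add_pow_prime_eq hp.out, one_pow, smul_pow, Algebra.smul_def (p : R), map_natCast, ← smul_mul_assoc]
    ring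
  have hn : lam ^ (p - 1) ∣ (p : R) := by
    by_contra hnd
    obtain ⟨m, hm⟩ := (ValuationRing.dvd_total (lam ^ (p - 1)) (p : R)).resolve_left hnd
    have hmm : m ∈ IsLocalRing.maximalIdeal R := by
      rw [IsLocalRing.mem_maximalIdeal]
      exact fun hu => hnd ⟨↑hu.unit⁻¹, by rw [hm, mul_assoc, IsUnit.mul_val_inv, mul_one]⟩
    have hlm : lam ∈ IsLocalRing.maximalIdeal R := by
      rw [IsLocalRing.mem_maximalIdeal]
      exact fun hu => hnd ((hu.pow _).dvd)
    have h1 := hSum (B := A) y
    rw [← ht', htp] at h1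
    have hpl : lam ^ p = (p : R) * lam * m := by
      rw [show lam ^ p = lam ^ (p - 1) * lam by rw [← pow_succ, Nat.sub_add_cancel hp.out.one_le], hm]; ring
    rw [hpl, ← smul_smul, ← smul_smul, add_assoc, left_eq_add, ← smul_add, ← smul_add] at h1
    have h2 := htf hp0 (h1.trans (smul_zero _).symm)
    have h3 := htf hlam (h2.trans (smul_zero _).symm)
    have h4 := congrArg (Algebra.TensorProduct.includeRight (R := R) (A := k)) h3
    rw [map_zero, map_add, map_smul, map_mul, map_sum] at h4
    rw [← IsScalarTower.algebraMap_smul k m, hres m hmm, zero_smul, zero_add, Finset.sum_eq_single 1] at h4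
    · simp [Nat.div_self hp.out.pos] at h4
      exact hyk h4
    · intro j hj hj1
      rw [Finset.mem_Ioo] at hj
      rw [map_mul, map_mul, map_pow, map_smul, ← IsScalarTower.algebraMap_smul k lam, hres lam hlm, zero_smul,
        zero_pow (by omega), zero_mul, zero_mul]
    · intro h
      exact absurd (Finset.mem_Ioo.mpr ⟨one_pos, hp.out.one_lt⟩) h
  obtain ⟨n, hn⟩ := hn
  have hdc : SekSuwa.DivCond lam p := by
    refine ⟨mem_nonZeroDivisors_of_ne_zero hlam, Polynomial.X ^ p + n • (Polynomial.X * ∑ j ∈ Finset.Ioo 0 p,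
      (lam • Polynomial.X) ^ (j - 1) * (1 : R[X]) ^ (p - j - 1) * ((p.choose j / p : ℕ) : R[X])), ?_⟩
    have h1 := hSum (B := R[X]) Polynomial.X
    have hpn : (p : R) * lam = lam ^ p * n := by
      rw [hn, show lam ^ p = lam ^ (p - 1) * lam by rw [← pow_succ, Nat.sub_add_cancel hp.out.one_le]]; ring
    rw [smul_smul, hpn, ← smul_smul] at h1
    rw [← Polynomial.smul_eq_C_mul, ← Polynomial.smul_eq_C_mul, h1, smul_add]
    abel
  -- the map
  set P := SekSuwa.psiPoly lam p hdc with hP
  have hPy : Polynomial.aeval y P = 0 := htf (pow_ne_zero p hlam) (by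
    rw [smul_zero, Algebra.smul_def, SekSuwa.aeval_psiPoly hdc, ← Algebra.smul_def, ← ht', htp, sub_self])
  have hrel : (1 + lam • y) * t ^ (p - 1) = 1 := by
    rw [← ht', ← pow_succ', Nat.sub_add_cancel hp.out.one_le, htp]
  let f : SekSuwa.AK R lam p hdc →ₐ[R] A :=
    Ideal.Quotient.liftₐ (SekSuwa.kerIdeal lam p hdc) (SekSuwa.A.lift R lam y (t ^ (p - 1)) hrel) (by
      intro z hz
      obtain ⟨c, rfl⟩ := Ideal.mem_span_singleton'.mp hz
      rw [map_mul, SekSuwa.kerGen, ← Polynomial.aeval_algHom_apply, SekSuwa.A.lift_t, ← hP, hPy, mul_zero])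
  have hft : f SekSuwa.AK.t = y := SekSuwa.A.lift_t _ _ hrel
  have hfi : f SekSuwa.AK.inv = t ^ (p - 1) := SekSuwa.A.lift_inv _ _ hrel
  let F : SekSuwa.AK R lam p hdc →ₐc[R] A := BialgHom.ofAlgHom f
    (SekSuwa.AK.algHom_ext (by
        show Coalgebra.counit (R := R) (f _) = Coalgebra.counit (R := R) (SekSuwa.AK.t : SekSuwa.AK R lam p hdc)
        rw [hft, SekSuwa.AK.counit_t, hcy]) (by
        show Coalgebra.counit (R := R) (f _) = Coalgebra.counit (R := R) (SekSuwa.AK.inv : SekSuwa.AK R lam p hdc)
        rw [hfi, SekSuwa.AK.counit_inv, (ht.pow (n := p - 1)).counit_eq_one]))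
    (SekSuwa.AK.algHom_ext (by
        show Algebra.TensorProduct.map f f (Coalgebra.comul (R := R) (SekSuwa.AK.t : SekSuwa.AK R lam p hdc)) =
          Coalgebra.comul (R := R) (f _)
        rw [hft, SekSuwa.AK.comul_t, hΔy]
        simp [map_add, map_smul, hft]) (by
        show Algebra.TensorProduct.map f f (Coalgebra.comul (R := R) (SekSuwa.AK.inv : SekSuwa.AK R lam p hdc)) =
          Coalgebra.comul (R := R) (f _)
        rw [hfi, SekSuwa.AK.comul_inv, (ht.pow (n := p - 1)).comul_eq_tmul_self]
        simp [hfi]))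
  have hlik : LinearIndependent k fun i : Fin p => ((1 : k) ⊗ₜ[R] y) ^ (i : ℕ) := by
    refine linearIndependent_pow_of_law p (algebraMap R k lam) _ hyk ?_ ?_ ?_ ?_
    · simp [hcy]
    · have h1 : Coalgebra.comul (R := R) y = _ := hΔy
      simp [h1, TensorProduct.tmul_add, TensorProduct.tmul_smul, Algebra.TensorProduct.one_def]
      rw [← algebraMap_smul k lam ((1 : k) ⊗ₜ[k] (1 : k) ⊗ₜ[R] (y ⊗ₜ[R] y)), map_smul, algebraMap_smul]
      simp
    · rw [IsScalarTower.algebraMap_smul, ← TensorProduct.tmul_smul,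
        show (1 : k ⊗[R] A) = Algebra.TensorProduct.includeRight (R := R) (A := k) 1 from (map_one _).symm,
        show (1 : k) ⊗ₜ[R] (lam • y) = Algebra.TensorProduct.includeRight (R := R) (A := k) (lam • y) from rfl,
        ← map_add, ← ht', ← map_pow, htp]
    · exact fun _ => CharP.cast_eq_zero k p
  have hF : F SekSuwa.AK.t = y := hft
  refine ⟨lam, hdc, F, hlam, ?_, ?_⟩
  · rw [hF, ht']
  · rw [hF]; exact hlik

omit [IsDiscreteValuationRing R] in
/-- The coordinate ring of `G_{λ,1}` is spanned by the powers of `t` below the degree. -/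
theorem span_pow_t (p : ℕ) [hp : Fact p.Prime] (lam : R) (hlam : lam ≠ 0) (hdc : SekSuwa.DivCond lam p) (hp0 : (p : R) ≠ 0) :
    Submodule.span R (Set.range fun i : Fin p => (SekSuwa.AK.t : SekSuwa.AK R lam p hdc) ^ (i : ℕ)) = ⊤ := by
  classical
  set P := SekSuwa.psiPoly lam p hdc with hP
  have hcoeff : ∀ j, 0 < j → lam ^ p * P.coeff j = lam ^ j * (p.choose j : R) := by
    intro j hj
    have h1 := congrArg (fun q => Polynomial.coeff q j) (SekSuwa.psiPoly_spec hdc)
    simp only [Polynomial.coeff_C_mul] at h1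
    rw [← hP] at h1
    rw [h1, Polynomial.coeff_sub, Polynomial.coeff_one, if_neg hj.ne', sub_zero, add_comm, add_pow,
      Polynomial.finsetSum_coeff]
    simp only [mul_pow, one_pow, _root_.mul_one, ← Polynomial.C_pow, ← Polynomial.C_eq_natCast, Polynomial.coeff_mul_C,
      Polynomial.coeff_C_mul_X_pow]
    rw [Finset.sum_eq_single j]
    · simp
    · intro c _ hc; simp [Ne.symm hc]
    · intro hc
      rw [Finset.mem_range, not_lt] at hc
      simp [Nat.choose_eq_zero_of_lt (show p < j by omega)]
  have hm : P.Monic ∧ P.natDegree ≤ p := by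
    have hN1 : P.coeff p = 1 := mul_left_cancel₀ (pow_ne_zero p hlam) (by
      rw [hcoeff p hp.out.pos, Nat.choose_self, Nat.cast_one])
    have hdeg : P.natDegree ≤ p := Polynomial.natDegree_le_iff_coeff_eq_zero.2 fun j hj =>
      mul_left_cancel₀ (pow_ne_zero p hlam) (by
        rw [hcoeff j (by omega), Nat.choose_eq_zero_of_lt hj, Nat.cast_zero, mul_zero, mul_zero])
    exact ⟨Polynomial.monic_of_natDegree_le_of_coeff_eq_one p hdeg hN1, hdeg⟩
  have hsurj : ∀ z : SekSuwa.AK R lam p hdc, ∃ q : R[X], Polynomial.aeval SekSuwa.AK.t q = z := by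
    intro z
    have hinv : (SekSuwa.AK.inv : SekSuwa.AK R lam p hdc) = (1 + lam • SekSuwa.AK.t) ^ (p - 1) := by
      have e1 : (1 + lam • (SekSuwa.AK.t : SekSuwa.AK R lam p hdc)) * SekSuwa.AK.inv = 1 := by
        have := congrArg (SekSuwa.AK.mkHom R lam p hdc) (SekSuwa.A.u_mul_inv (R := R) (lam := lam))
        rw [map_mul, map_one, SekSuwa.A.u, map_add, map_one, map_smul] at this
        exact this
      calc (SekSuwa.AK.inv : SekSuwa.AK R lam p hdc) = (1 + lam • SekSuwa.AK.t) ^ p * SekSuwa.AK.inv := by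
            rw [SekSuwa.AK.u_pow, _root_.one_mul]
        _ = _ := by rw [← pow_sub_one_mul hp.out.ne_zero (1 + lam • (SekSuwa.AK.t : SekSuwa.AK R lam p hdc)),
              _root_.mul_assoc, e1, _root_.mul_one]
    let g : SekSuwa.A R lam →ₐ[R] (Polynomial.aeval (R := R) (SekSuwa.AK.t : SekSuwa.AK R lam p hdc)).range :=
      SekSuwa.A.lift R lam ⟨SekSuwa.AK.t, Polynomial.X, Polynomial.aeval_X _⟩
        ⟨SekSuwa.AK.inv, (1 + lam • Polynomial.X) ^ (p - 1), by simp [hinv]⟩ (Subtype.ext (by
          show (1 + lam • (SekSuwa.AK.t : SekSuwa.AK R lam p hdc)) * SekSuwa.AK.inv = 1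
          rw [hinv, ← pow_succ', Nat.sub_add_cancel hp.out.one_le, SekSuwa.AK.u_pow]))
    obtain ⟨w, rfl⟩ := Ideal.Quotient.mk_surjective (I := SekSuwa.kerIdeal lam p hdc) z
    have hg : (Subalgebra.val _).comp g = (SekSuwa.AK.mkHom R lam p hdc : SekSuwa.A R lam →ₐ[R] _) :=
      SekSuwa.A.algHom_ext (by simp [g]; rfl) (by simp [g]; rfl)
    obtain ⟨q, hq⟩ := (g w).2
    exact ⟨q, hq.trans (AlgHom.congr_fun hg w)⟩
  refine eq_top_iff.mpr fun z _ => ?_
  obtain ⟨q, rfl⟩ := hsurj z
  have hrem := Polynomial.modByMonic_add_div q P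
  rw [← hrem, map_add, map_mul, SekSuwa.AK.aeval_t, zero_mul, add_zero]
  rw [Polynomial.aeval_eq_sum_range' (n := p)]
  · exact Submodule.sum_mem _ fun i hi => Submodule.smul_mem _ _ (Submodule.subset_span ⟨⟨i, Finset.mem_range.mp hi⟩, rfl⟩)
  · have hP1 : P ≠ 1 := fun h => by
      have := hcoeff 1 one_pos
      rw [h, Polynomial.coeff_one, if_neg one_ne_zero, mul_zero, Nat.choose_one_right, pow_one] at this
      exact mul_ne_zero hlam hp0 this.symm
    exact lt_of_lt_of_le (Polynomial.natDegree_modByMonic_lt q hm.1 hP1) hm.2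

/-- Residual independence of the powers makes the structure map injective. -/
theorem injective_of_linearIndependent_residue {ι : Type*} [Fintype ι] {A : Type u} [CommRing A] [HopfAlgebra R A] (p : ℕ)
    [hp : Fact p.Prime] (b : Module.Basis ι R A) (lam : R) (hlam : lam ≠ 0) (hdc : SekSuwa.DivCond lam p) (hp0 : (p : R) ≠ 0)
    (F : SekSuwa.AK R lam p hdc →ₐc[R] A)
    (hli : LinearIndependent (IsLocalRing.ResidueField R)
        fun i : Fin p => ((1 : IsLocalRing.ResidueField R) ⊗ₜ[R] F SekSuwa.AK.t) ^ (i : ℕ)) :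
    Function.Injective F := by
  classical
  haveI : Module.Free R A := Module.Free.of_basis b
  let k := IsLocalRing.ResidueField R
  let L : (Fin p → R) →ₗ[R] A := Fintype.linearCombination R fun i : Fin p => F SekSuwa.AK.t ^ (i : ℕ)
  obtain ⟨π, hπ⟩ := IsDiscreteValuationRing.exists_irreducible R
  have hker : LinearMap.ker L = ⊥ := by
    refine Submodule.eq_bot_of_le_smul_of_le_jacobson_bot (Ideal.span {π}) _ (IsNoetherian.noetherian _) ?_ ?_
    · intro c hc
      have hdiv : ∀ i, ∃ r, c i = π * r := fun i => by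
        have h1 : (∑ i : Fin p, algebraMap R k (c i) • ((1 : k) ⊗ₜ[R] F SekSuwa.AK.t) ^ (i : ℕ)) =
            Algebra.TensorProduct.includeRight (R := R) (A := k) (L c) := by
          simp [L, Fintype.linearCombination_apply, map_sum, map_pow, TensorProduct.tmul_smul, algebraMap_smul]
        rw [LinearMap.mem_ker.mp hc, map_zero] at h1
        have h2 := Fintype.linearIndependent_iff.mp hli _ h1 i
        rw [IsLocalRing.ResidueField.algebraMap_eq] at h2
        have h3 : c i ∈ IsLocalRing.maximalIdeal R := Ideal.Quotient.eq_zero_iff_mem.mp h2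
        rw [hπ.maximalIdeal_eq, Ideal.mem_span_singleton] at h3
        exact h3
      choose r hr using hdiv
      have hc' : c = π • r := funext fun i => hr i
      rw [hc'] at hc ⊢
      refine Submodule.smul_mem_smul (Ideal.mem_span_singleton_self π) ?_
      rw [LinearMap.mem_ker, map_smul] at hc
      exact LinearMap.mem_ker.mpr (b.repr.injective (Finsupp.ext fun i => by
        have := DFunLike.congr_fun (congrArg b.repr hc) i
        simpa [hπ.ne_zero] using this))
    · rw [IsLocalRing.jacobson_eq_maximalIdeal _ bot_ne_top, hπ.maximalIdeal_eq]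
  refine (injective_iff_map_eq_zero F).mpr fun z hz => ?_
  obtain ⟨c, hc⟩ := (Submodule.mem_span_range_iff_exists_fun R).mp
    ((span_pow_t p lam hlam hdc hp0).ge (Submodule.mem_top (x := z)))
  have h1 : c ∈ LinearMap.ker L := by
    rw [LinearMap.mem_ker, ← hz, ← hc]
    simp [L, Fintype.linearCombination_apply, map_sum, map_smul, map_pow]
  rw [hker, Submodule.mem_bot] at h1
  rw [← hc, h1]
  simp

/-- A finite free Hopf algebra of prime rank with a non-trivial character is some `G_{λ,1}`. -/
theorem exists_bialgEquiv_AK {A : Type u} [CommRing A] [HopfAlgebra R A] (p : ℕ) [hp : Fact p.Prime]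
    [CharP (IsLocalRing.ResidueField R) p] (b : Module.Basis (Fin p) R A) (t : A) (htp : t ^ p = 1) (ht1 : t ≠ 1)
    (ht : IsGroupLikeElem R t) (hp0 : (p : R) ≠ 0) :
    ∃ (lam : R) (h : SekSuwa.DivCond lam p), lam ≠ 0 ∧ Nonempty (SekSuwa.AK R lam p h ≃ₐc[R] A) := by
  classical
  obtain ⟨lam, hdc, F, hlam, -, hlik⟩ := exists_bialgHom_AK p b t htp ht1 ht hp0
  refine ⟨lam, hdc, hlam, ⟨BialgEquiv.ofBijective F ⟨injective_of_linearIndependent_residue p b lam hlam hdc hp0 F hlik, ?_⟩⟩⟩
  let k := IsLocalRing.ResidueField R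
  let bk : Module.Basis (Fin p) k (k ⊗[R] A) := b.baseChange k
  set y := F SekSuwa.AK.t with hy
  have hdet : IsUnit (b.det fun i : Fin p => y ^ (i : ℕ)) := by
    haveI : IsLocalHom (algebraMap R k) := inferInstanceAs (IsLocalHom (IsLocalRing.residue R))
    refine isUnit_of_map_unit (algebraMap R k) _ ?_
    have h1 : IsUnit (bk.det fun i : Fin p => ((1 : k) ⊗ₜ[R] y) ^ (i : ℕ)) := by
      rw [← Module.Basis.is_basis_iff_det]
      exact ⟨hlik, hlik.span_eq_top_of_card_eq_finrank (by rw [Module.finrank_eq_card_basis bk])⟩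
    convert h1 using 1
    rw [Module.Basis.det_apply, Module.Basis.det_apply, RingHom.map_det]
    congr 1
    ext i j
    rw [RingHom.mapMatrix_apply, Matrix.map_apply, Module.Basis.toMatrix_apply, Module.Basis.toMatrix_apply,
      Algebra.TensorProduct.tmul_pow, one_pow, Module.Basis.baseChange_repr_tmul, Algebra.smul_def, _root_.mul_one]
  obtain ⟨-, hspy⟩ := (Module.Basis.is_basis_iff_det b).mpr hdet
  intro a
  obtain ⟨c, hc⟩ := (Submodule.mem_span_range_iff_exists_fun R).mp (hspy.ge (Submodule.mem_top (x := a)))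
  exact ⟨∑ i : Fin p, c i • SekSuwa.AK.t ^ (i : ℕ), by
    rw [← hc]
    simp [map_sum, map_smul, map_pow, hy]⟩

end Groth.Agent.SekSuwaLib
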