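import Groth.Prelude.Def_TwC
import Groth.Agent.GrpSchLib.AffineHopf
import Groth.Agent.SekSuwaLib.OrderPrime
import Mathlib.AlgebraicGeometry.Limits
import Mathlib.RingTheory.Localization.FractionRing
import Mathlib.RingTheory.TensorProduct.IncludeLeftSubRight

/-! Points and characters of Hopf orders with constant generic fibre. -/

set_option autoImplicit false

universe u

open CategoryTheory CategoryTheory.Limits MonoidalCategory CartesianMonoidalCategory MonObj GrpObj AlgebraicGeometry
open TensorProduct WithConv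
open Groth.Agent.GrpSchLib.AffineHopf

namespace Groth.Agent.SekSuwaLib

set_option linter.style.haveILetI false

/-- A finite disjoint union of copies of `Spec K` isomorphic to `Spec B` splits `B`. -/
theorem bijective_of_isIso_sigma {K B : Type u} [CommRing K] [CommRing B] {M : Type} [Finite M]
    (f : (∐ fun _ : M => Spec (CommRingCat.of K)) ⟶ Spec (CommRingCat.of B)) [IsIso f]
    (π : M → (B →+* K)) (h : ∀ m, Sigma.ι (fun _ : M => Spec (CommRingCat.of K)) m ≫ f =
      Spec.map (CommRingCat.ofHom (π m))) :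
    Function.Bijective fun (b : B) (m : M) => π m b := by
  classical
  let Ψ : B →+* (ULift.{u} M → K) := RingHom.pi fun i => π i.down
  let θ : (∐ fun _ : ULift.{u} M => Spec (CommRingCat.of K)) ⟶
      (∐ fun _ : M => Spec (CommRingCat.of K)) :=
    Sigma.desc fun i => Sigma.ι (fun _ : M => Spec (CommRingCat.of K)) i.down
  haveI : IsIso θ := ⟨Sigma.desc fun m => Sigma.ι (fun _ : ULift.{u} M => Spec (CommRingCat.of K)) ⟨m⟩,
    Sigma.hom_ext _ _ fun i => by simp [θ], Sigma.hom_ext _ _ fun i => by simp [θ]⟩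
  have key : sigmaSpec (fun _ : ULift.{u} M => CommRingCat.of K) ≫ Spec.map (CommRingCat.ofHom Ψ) = θ ≫ f := by
    refine Sigma.hom_ext _ _ fun i => ?_
    rw [ι_sigmaSpec_assoc, ← Spec.map_comp, Sigma.ι_desc_assoc, h]
    rfl
  haveI : IsIso (sigmaSpec (fun _ : ULift.{u} M => CommRingCat.of K) ≫ Spec.map (CommRingCat.ofHom Ψ)) := by
    rw [key]; infer_instance
  haveI : IsIso (Spec.map (CommRingCat.ofHom Ψ)) :=
    IsIso.of_isIso_comp_left (sigmaSpec (fun _ : ULift.{u} M => CommRingCat.of K)) _
  let g := Spec.preimage (inv (Spec.map (CommRingCat.ofHom Ψ)))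
  have hg1 : CommRingCat.ofHom Ψ ≫ g = 𝟙 _ := Spec.map_injective (by rw [Spec.map_comp, Spec.map_preimage, Spec.map_id]; exact IsIso.inv_hom_id _)
  have hg2 : g ≫ CommRingCat.ofHom Ψ = 𝟙 _ := Spec.map_injective (by rw [Spec.map_comp, Spec.map_preimage, Spec.map_id]; exact IsIso.hom_inv_id _)
  have hΨ : Function.Bijective Ψ := Function.bijective_iff_has_inverse.mpr
    ⟨g.hom, fun x => congrArg (fun h => h.hom x) hg1, fun x => congrArg (fun h => h.hom x) hg2⟩
  exact (Equiv.bijective (Equiv.piCongrLeft' (fun _ : ULift.{u} M => K) Equiv.ulift)).comp hΨ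

/-- Points of a constant group scheme presented as the spectrum of a bialgebra. -/
theorem exists_points {K : Type u} [CommRing K] {B : Type u} [CommRing B] [HopfAlgebra K B]
    {M : Type} [Group M] [Finite M]
    (φ : TwC.const (Spec (CommRingCat.of K)) M ⟶ sp K B) [IsIso φ]
    (hφ : ∀ m n, (TwC.pt (Spec (CommRingCat.of K)) M m ≫ φ) * (TwC.pt (Spec (CommRingCat.of K)) M n ≫ φ) = TwC.pt (Spec (CommRingCat.of K)) M (m * n) ≫ φ) :
    ∃ π : M → (B →ₐ[K] K), Function.Bijective (fun (b : B) (m : M) => π m b) ∧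
      ∀ m n, (toConv (π m) * toConv (π n)).ofConv = π (m * n) := by
  classical
  let v : sp K K ⟶ 𝟙_ (Over (Spec (CommRingCat.of K))) := toUnit _
  have hv : v.left = 𝟙 _ := by
    have h := Over.w v
    simp only [Over.tensorUnit_hom, Functor.id_obj, Functor.const_obj_obj] at h
    refine ((Category.comp_id _).symm.trans h).trans ?_
    show Spec.map (CommRingCat.ofHom (algebraMap K K)) = 𝟙 _
    exact Spec.map_id _
  choose π hπ using fun m => exists_eq_spMap (v ≫ TwC.pt (Spec (CommRingCat.of K)) M m ≫ φ)
  refine ⟨π, ?_, fun m n => spMap_injective ?_⟩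
  swap
  · rw [← spMap_mul, ← hπ, ← hπ, ← hπ, ← hφ m n, MonObj.comp_mul]
  haveI : IsIso φ.left := inferInstanceAs (IsIso ((Over.forget _).map φ))
  refine @bijective_of_isIso_sigma K B _ _ M _ φ.left ‹_› (fun m => (π m).toRingHom) fun m => ?_
  have h := congrArg Over.Hom.left (hπ m)
  rw [Over.comp_left, Over.comp_left, hv] at h
  exact (Category.id_comp _).symm.trans h

/-- A character of the generic fibre of a Hopf order takes integral values. -/
theorem exists_character {R : Type u} [CommRing R] [IsDomain R] [IsDiscreteValuationRing R] (p : ℕ) [hp : Fact p.Prime]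
    {A : Type u} [CommRing A] [HopfAlgebra R A] [Module.Finite R A] [Module.Free R A]
    {M : Type} [Group M] [Fintype M]
    (π : M → (FractionRing R ⊗[R] A →ₐ[FractionRing R] FractionRing R))
    (hbij : Function.Bijective fun b m => π m b)
    (hmul : ∀ m n, (toConv (π m) * toConv (π n)).ofConv = π (m * n))
    (χ₀ : M → R) (hχ₀ : ∀ m n, χ₀ (m * n) = χ₀ m * χ₀ n) (hχp : ∀ m, χ₀ m ^ p = 1) (m₀ : M) (hm₀ : χ₀ m₀ ≠ 1) :
    ∃ t : A, t ^ p = 1 ∧ t ≠ 1 ∧ IsGroupLikeElem R t ∧
      ∀ m, π m ((1 : FractionRing R) ⊗ₜ[R] t) = algebraMap R (FractionRing R) (χ₀ m) := by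
  classical
  let K := FractionRing R
  let b₀ := Module.Free.chooseBasis R A
  let L : K ⊗[R] A →ₗ[K] (M → K) := LinearMap.pi fun m => (π m).toLinearMap
  let Le := LinearEquiv.ofBijective L hbij
  let b := b₀
  let ev : M → (A →ₐ[R] K) := fun m =>
    ((π m).restrictScalars R).comp Algebra.TensorProduct.includeRight
  let β : Module.Free.ChooseBasisIndex R A → (M → K) := fun l m => ev m (b l)
  have hβ : LinearIndependent K β := by
    have h := (b.baseChange K).linearIndependent.map' Le.toLinearMap Le.ker
    have e : (Le.toLinearMap ∘ (b.baseChange K)) = β := by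
      funext l m
      simp [Le, L, β, ev, Module.Basis.baseChange_apply, LinearEquiv.ofBijective_apply] <;> rfl
    rwa [e] at h
  -- separation of functions of two variables
  have hsep : ∀ X : Module.Free.ChooseBasisIndex R A × Module.Free.ChooseBasisIndex R A → K,
      (∀ m n, ∑ uv : Module.Free.ChooseBasisIndex R A × Module.Free.ChooseBasisIndex R A, X uv * (β uv.1 m * β uv.2 n) = 0) → X = 0 := by
    intro X hX
    have h1 : ∀ n u, ∑ v, X (u, v) * β v n = 0 := fun n => by
      refine Fintype.linearIndependent_iff.mp hβ (fun u => ∑ v, X (u, v) * β v n) (funext fun m => ?_)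
      rw [Finset.sum_apply, Pi.zero_apply, ← hX m n, Fintype.sum_prod_type]
      refine Finset.sum_congr rfl fun u _ => ?_
      rw [Pi.smul_apply, smul_eq_mul, Finset.sum_mul]
      exact Finset.sum_congr rfl fun v _ => by ring
    funext uv
    exact Fintype.linearIndependent_iff.mp hβ (fun v => X (uv.1, v)) (funext fun n => by
      rw [Finset.sum_apply, Pi.zero_apply, ← h1 n uv.1]
      exact Finset.sum_congr rfl fun v _ => rfl) uv.2
  let bb := b.tensorProduct b
  have hev2 : ∀ (m n : M) (x : A ⊗[R] A),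
      Algebra.TensorProduct.lift (ev m) (ev n) (fun _ _ => Commute.all _ _) x =
        ∑ uv : Module.Free.ChooseBasisIndex R A × Module.Free.ChooseBasisIndex R A, algebraMap R K (bb.repr x uv) * (β uv.1 m * β uv.2 n) := fun m n x => by
    conv_lhs => rw [← bb.sum_repr x]
    rw [map_sum]
    refine Finset.sum_congr rfl fun uv _ => ?_
    rw [map_smul, Algebra.smul_def, Module.Basis.tensorProduct_apply', Algebra.TensorProduct.lift_tmul]
  have hevmul : ∀ m n (a : A), ev (m * n) a =
      Algebra.TensorProduct.lift (ev m) (ev n) (fun _ _ => Commute.all _ _) (Coalgebra.comul (R := R) a) := fun m n a => by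
    show π (m * n) ((1 : K) ⊗ₜ[R] a) = _
    rw [← hmul m n]
    simp only [AlgHom.convMul_apply, TensorProduct.comul_tmul, CommSemiring.comul_apply]
    induction Coalgebra.comul (R := R) a using TensorProduct.induction_on with
    | zero => simp
    | tmul x y => simp [ev]
    | add x y hx hy => simp only [TensorProduct.tmul_add, map_add, hx, hy]
  -- the character
  let χ : M → K := fun m => algebraMap R K (χ₀ m)
  have hχ : ∀ m n, χ (m * n) = χ m * χ n := fun m n => by simp only [χ, hχ₀, map_mul]
  let c : Module.Free.ChooseBasisIndex R A → K := fun l => (b.baseChange K).repr (Le.symm χ) l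
  have hc : ∀ m, ∑ l, c l * β l m = χ m := fun m => by
    conv_rhs => rw [← Le.apply_symm_apply χ, ← (b.baseChange K).sum_repr (Le.symm χ)]
    rw [map_sum, Finset.sum_apply]
    refine Finset.sum_congr rfl fun l _ => ?_
    rw [map_smul, Pi.smul_apply, smul_eq_mul]
    simp [Le, L, β, ev, c, Module.Basis.baseChange_apply, LinearEquiv.ofBijective_apply] <;> exact Or.inl rfl
  let D : Module.Free.ChooseBasisIndex R A → Module.Free.ChooseBasisIndex R A × Module.Free.ChooseBasisIndex R A → R := fun l uv => bb.repr (Coalgebra.comul (R := R) (b l)) uv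
  have hcc : ∀ uv : Module.Free.ChooseBasisIndex R A × Module.Free.ChooseBasisIndex R A, c uv.1 * c uv.2 = ∑ l, D l uv • c l := by
    intro uv
    have h := hsep (fun uv => c uv.1 * c uv.2 - ∑ l, D l uv • c l) fun m n => by
      simp only [sub_mul, Finset.sum_sub_distrib, Algebra.smul_def]
      rw [sub_eq_zero]
      refine Eq.trans ?_ ((Finset.sum_comm (f := fun l uv => algebraMap R K (D l uv) * c l * (β uv.1 m * β uv.2 n))).trans
        (Finset.sum_congr rfl fun uv _ => (Finset.sum_mul _ _ _).symm))
      calc ∑ uv : Module.Free.ChooseBasisIndex R A × Module.Free.ChooseBasisIndex R A, c uv.1 * c uv.2 * (β uv.1 m * β uv.2 n) = χ m * χ n := by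
            rw [← hc m, ← hc n, Finset.sum_mul_sum, Fintype.sum_prod_type]
            exact Finset.sum_congr rfl fun u _ => Finset.sum_congr rfl fun v _ => by ring
        _ = ∑ l, c l * β l (m * n) := by rw [hc, hχ]
        _ = _ := Finset.sum_congr rfl fun l _ => by
            rw [show β l (m * n) = _ from hevmul m n (b l), hev2, Finset.mul_sum]
            exact Finset.sum_congr rfl fun uv _ => by show _ = algebraMap R K (D l uv) * c l * _; ring
    exact sub_eq_zero.mp (congrFun h uv)
  let N : Submodule R K := Submodule.span R (insert 1 (Set.range c))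
  have hN1 : (1 : K) ∈ N := Submodule.subset_span (Set.mem_insert _ _)
  have hNc : ∀ l, c l ∈ N := fun l => Submodule.subset_span (Set.mem_insert_of_mem _ ⟨l, rfl⟩)
  have hNN : N * N ≤ N := by
    rw [Submodule.span_mul_span, Submodule.span_le]
    rintro _ ⟨x, hx, y, hy, rfl⟩
    rcases hx with rfl | ⟨l, rfl⟩
    · show 1 * y ∈ N
      rw [_root_.one_mul]; exact Submodule.subset_span hy
    rcases hy with rfl | ⟨l', rfl⟩
    · show c l * 1 ∈ N
      rw [_root_.mul_one]; exact hNc l
    show c l * c l' ∈ N
    rw [show c l * c l' = _ from hcc (l, l')]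
    exact sum_mem fun i _ => N.smul_mem _ (hNc i)
  have hint : ∀ l, IsIntegral R (c l) := fun l => by
    refine IsIntegral.of_mem_of_fg (N.toSubalgebra hN1 fun x y hx hy => hNN (Submodule.mul_mem_mul hx hy)) ?_ _ (hNc l)
    show (Subalgebra.toSubmodule _).FG
    rw [Submodule.toSubalgebra_toSubmodule]
    exact Submodule.fg_span ((Set.finite_range c).insert 1)
  choose r hr using fun l => IsIntegrallyClosed.isIntegral_iff.mp (hint l)
  let t : A := b.equivFun.symm r
  have hevt : ∀ m, ev m t = χ m := fun m => by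
    rw [← hc m]
    simp [t, Module.Basis.equivFun_symm_apply, map_sum, map_smul, Algebra.smul_def, hr, β]
  have hinj : ∀ a a' : A, (∀ m, ev m a = ev m a') → a = a' := fun a a' h => by
    have h1 : (1 : K) ⊗ₜ[R] a = (1 : K) ⊗ₜ[R] a' := hbij.1 (funext h)
    refine b.repr.injective (Finsupp.ext fun l => IsFractionRing.injective R K ?_)
    have h2 := congrArg (fun z => (b.baseChange K).repr z l) h1
    simpa [Algebra.smul_def] using h2
  have hcomul : Coalgebra.comul (R := R) t = t ⊗ₜ[R] t := by
    refine bb.repr.injective (Finsupp.ext fun uv => IsFractionRing.injective R K (sub_eq_zero.mp ?_))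
    refine congrFun (hsep (fun uv => algebraMap R K (bb.repr (Coalgebra.comul (R := R) t) uv) -
      algebraMap R K (bb.repr (t ⊗ₜ[R] t) uv)) fun m n => ?_) uv
    simp only [sub_mul, Finset.sum_sub_distrib]
    rw [← hev2, ← hev2, ← hevmul, Algebra.TensorProduct.lift_tmul, hevt, hevt, hevt, hχ, sub_self]
  have hne : t ≠ 1 := fun h => by
    have h1 := hevt m₀
    rw [h, map_one] at h1
    exact hm₀ (IsFractionRing.injective R K (by rw [map_one]; exact h1.symm))
  have htp : t ^ p = 1 := hinj _ _ fun m => by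
    rw [map_pow, map_one, hevt]
    simp only [χ]
    rw [← map_pow, hχp, map_one]
  refine ⟨t, htp, hne, ⟨?_, hcomul⟩, hevt⟩
  have h1 := Coalgebra.rTensor_counit_comul (R := R) t
  rw [hcomul, LinearMap.rTensor_tmul] at h1
  have h2 := congrArg (TensorProduct.lid R A) h1
  simp only [TensorProduct.lid_tmul, one_smul] at h2
  have hu : IsUnit t := IsUnit.of_mul_eq_one (b := t ^ (p - 1)) (by rw [← pow_succ', Nat.sub_add_cancel hp.out.one_le, htp])
  have h3 : algebraMap R A (Coalgebra.counit (R := R) t) = 1 := hu.mul_right_cancel (by rw [← Algebra.smul_def, h2, _root_.one_mul])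
  have h4 := congrArg (Coalgebra.counit (R := R)) h3
  simpa using h4

/-- Nakayama: a module which is free modulo a regular element of the maximal ideal is free. -/
theorem free_of_quotient_free {B : Type u} [CommRing B] [IsLocalRing B] [IsNoetherianRing B] (M : Type u) [AddCommGroup M]
    [Module B M] [Module.Finite B M] (x : B) (hx : x ∈ IsLocalRing.maximalIdeal B) (hreg : IsSMulRegular M x)
    [Module.Free (B ⧸ Ideal.span {x}) ((B ⧸ Ideal.span {x}) ⊗[B] M)] : Module.Free B M := by
  classical
  let Q := B ⧸ Ideal.span {x}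
  let f : M →ₗ[B] Q ⊗[B] M := TensorProduct.mk B Q M 1
  have hf : Function.Surjective f := fun z => by
    induction z using TensorProduct.induction_on with
    | zero => exact ⟨0, map_zero _⟩
    | tmul q m =>
      obtain ⟨b, rfl⟩ := Ideal.Quotient.mk_surjective q
      refine ⟨b • m, ?_⟩
      show (1 : Q) ⊗ₜ[B] (b • m) = _
      rw [← TensorProduct.smul_tmul]
      congr 1
      rw [Algebra.smul_def, _root_.mul_one]
      rfl
    | add z w hz hw =>
      obtain ⟨a, rfl⟩ := hz
      obtain ⟨c, rfl⟩ := hw
      exact ⟨a + c, map_add _ _ _⟩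
  have hkerf : ∀ m : M, f m = 0 → m ∈ Ideal.span {x} • (⊤ : Submodule B M) := fun m hm => by
    have h1 := congrArg (TensorProduct.quotTensorEquivQuotSMul M (Ideal.span {x})) hm
    rw [map_zero] at h1
    have h2 : Submodule.Quotient.mk (p := Ideal.span {x} • (⊤ : Submodule B M)) m = 0 := by
      rw [← h1]
      exact (TensorProduct.quotTensorEquivQuotSMul_mk_one_tmul (Ideal.span {x}) m).symm
    exact (Submodule.Quotient.mk_eq_zero _).mp h2
  let bQ := Module.Free.chooseBasis Q (Q ⊗[B] M)
  choose g hg using fun i => hf (bQ i)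
  let φ : (Module.Free.ChooseBasisIndex Q (Q ⊗[B] M) → B) →ₗ[B] M := Fintype.linearCombination B g
  have hcomp : ∀ c, f (φ c) = ∑ i, Ideal.Quotient.mk (Ideal.span {x}) (c i) • bQ i := fun c => by
    simp only [φ, Fintype.linearCombination_apply, map_sum, map_smul, hg]
    exact Finset.sum_congr rfl fun i _ => (algebraMap_smul Q (c i) (bQ i)).symm
  have hsurj : Function.Surjective φ := by
    rw [← LinearMap.range_eq_top, eq_top_iff]
    refine Submodule.le_of_le_smul_of_le_jacobson_bot (I := Ideal.span {x}) Module.Finite.fg_top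
      ((Ideal.span_singleton_le_iff_mem _).mpr hx |>.trans (IsLocalRing.maximalIdeal_le_jacobson _)) fun m _ => ?_
    choose c hc using fun i => Ideal.Quotient.mk_surjective (I := Ideal.span {x}) (bQ.repr (f m) i)
    have h1 : f (m - φ c) = 0 := by
      rw [map_sub, hcomp, sub_eq_zero]
      simp only [hc]
      exact (bQ.sum_repr (f m)).symm
    rw [show m = φ c + (m - φ c) by abel]
    exact Submodule.add_mem_sup ⟨c, rfl⟩ (hkerf _ h1)
  have hinj : LinearMap.ker φ = ⊥ := by
    refine Submodule.eq_bot_of_le_smul_of_le_jacobson_bot (Ideal.span {x}) _ (IsNoetherian.noetherian _) ?_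
      ((Ideal.span_singleton_le_iff_mem _).mpr hx |>.trans (IsLocalRing.maximalIdeal_le_jacobson _))
    intro c hc
    rw [LinearMap.mem_ker] at hc
    have h1 := hcomp c
    rw [hc, map_zero] at h1
    have h2 := Fintype.linearIndependent_iff.mp bQ.linearIndependent _ h1.symm
    choose r hr using fun i => Ideal.mem_span_singleton'.mp (Ideal.Quotient.eq_zero_iff_mem.mp (h2 i))
    have hc' : c = x • r := funext fun i => by rw [Pi.smul_apply, smul_eq_mul, mul_comm, hr]
    rw [hc'] at hc ⊢
    rw [map_smul] at hc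
    exact Submodule.smul_mem_smul (Ideal.mem_span_singleton_self x) (LinearMap.mem_ker.mpr (hreg (hc.trans (smul_zero x).symm)))
  exact Module.Free.of_equiv (LinearEquiv.ofBijective φ ⟨LinearMap.ker_eq_bot.mp hinj, hsurj⟩)

/-- Flatness from flatness modulo a regular element of the base lying in every maximal ideal. -/
theorem flat_of_flat_quotient {B : Type u} [CommRing B] [IsNoetherianRing B] (M : Type u) [AddCommGroup M]
    [Module B M] [Module.Finite B M] (x : B) (hx : ∀ P : Ideal B, P.IsMaximal → x ∈ P) (hreg : IsSMulRegular M x)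
    [Module.Flat (B ⧸ Ideal.span {x}) ((B ⧸ Ideal.span {x}) ⊗[B] M)] : Module.Flat B M := by
  refine Module.flat_of_isLocalized_maximal (R := B) (S := B) (M := M)
    (fun P hP => Localization.AtPrime P ⊗[B] M) (fun P hP => TensorProduct.mk B (Localization.AtPrime P) M 1) fun P hP => ?_
  haveI := hP
  let C := Localization.AtPrime P
  let x' : C := algebraMap B C x
  have hx' : x' ∈ IsLocalRing.maximalIdeal C :=
    (IsLocalization.AtPrime.to_map_mem_maximal_iff C P x).mpr (hx P hP)
  have hreg' : IsSMulRegular (C ⊗[B] M) x' := by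
    have h := Module.Flat.lTensor_preserves_injective_linearMap (M := C) (x • LinearMap.id : M →ₗ[B] M) (fun a b h => hreg h)
    intro a b hab
    apply h
    have e : ∀ z : C ⊗[B] M, (x • LinearMap.id : M →ₗ[B] M).lTensor C z = x' • z := fun z => by
      rw [LinearMap.lTensor_smul, LinearMap.lTensor_id, LinearMap.smul_apply, LinearMap.id_apply]
      exact (algebraMap_smul C x z).symm
    rw [e, e]; exact hab
  have hle : Ideal.span {x} ≤ RingHom.ker ((Ideal.Quotient.mk (Ideal.span {x'})).comp (algebraMap B C)) := by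
    rw [Ideal.span_singleton_le_iff_mem, RingHom.mem_ker]
    exact Ideal.Quotient.eq_zero_iff_mem.mpr (Ideal.mem_span_singleton_self x')
  letI : Algebra (B ⧸ Ideal.span {x}) (C ⧸ Ideal.span {x'}) := (Ideal.Quotient.lift _ _ hle).toAlgebra
  haveI : IsScalarTower B (B ⧸ Ideal.span {x}) (C ⧸ Ideal.span {x'}) := IsScalarTower.of_algebraMap_eq fun b => rfl
  haveI : Module.Flat (C ⧸ Ideal.span {x'}) ((C ⧸ Ideal.span {x'}) ⊗[B] M) :=
    Module.Flat.of_linearEquiv (TensorProduct.AlgebraTensorModule.cancelBaseChange B (B ⧸ Ideal.span {x})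
      (C ⧸ Ideal.span {x'}) (C ⧸ Ideal.span {x'}) M).symm
  haveI : Module.Flat (C ⧸ Ideal.span {x'}) ((C ⧸ Ideal.span {x'}) ⊗[C] (C ⊗[B] M)) :=
    Module.Flat.of_linearEquiv (TensorProduct.AlgebraTensorModule.cancelBaseChange B C
      (C ⧸ Ideal.span {x'}) (C ⧸ Ideal.span {x'}) M)
  haveI : IsLocalRing (C ⧸ Ideal.span {x'}) :=
    haveI : Nontrivial (C ⧸ Ideal.span {x'}) := Ideal.Quotient.nontrivial_iff.mpr
      (fun h => (IsLocalRing.maximalIdeal.isMaximal C).ne_top (eq_top_iff.mpr (h ▸ (Ideal.span_singleton_le_iff_mem _).mpr hx')))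
    IsLocalRing.of_surjective' _ Ideal.Quotient.mk_surjective
  haveI : Module.Free (C ⧸ Ideal.span {x'}) ((C ⧸ Ideal.span {x'}) ⊗[C] (C ⊗[B] M)) :=
    Module.free_of_flat_of_isLocalRing
  haveI := free_of_quotient_free (C ⊗[B] M) x' hx' hreg'
  haveI : Module.Flat C (C ⊗[B] M) := inferInstance
  exact Module.Flat.trans B C (C ⊗[B] M)

end Groth.Agent.SekSuwaLib
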