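import Groth.Agent.SekSuwaLib.GLamPts
import Groth.Agent.SekSuwaLib.GKPoints
import Groth.Agent.BalLib.Points
import Groth.Agent.SchTorsor.Props
import Groth.Agent.S9821
import Groth.Agent.EtFound.Descent
import Mathlib.AlgebraicGeometry.FunctionField

/-!
# Torsors under `G_{λ,N}` over normal schemes
-/

set_option autoImplicit false
set_option backward.isDefEq.respectTransparency false
set_option backward.isDefEq.respectTransparency.types false
set_option linter.style.haveILetI false
universe u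

open CategoryTheory CategoryTheory.Limits MonoidalCategory CartesianMonoidalCategory MonObj GrpObj AlgebraicGeometry
open Groth.Agent.BalLib

noncomputable section

namespace Groth.Agent.SekSuwaLib.GKNormal

/-- On a normal integral scheme a rational point of an integral scheme over it extends to a section. -/
theorem exists_section_of_generic {P X : Scheme.{u}} [IsIntegral X] (hX : Pi1.IsNormalScheme X) (g : P ⟶ X)
    [IsIntegralHom g] (pη : Spec (X.presheaf.stalk (genericPoint X)) ⟶ P)
    (hη : pη ≫ g = X.fromSpecStalk (genericPoint X)) : ∃ s : X ⟶ P, s ≫ g = 𝟙 X := by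
  let ξ := genericPoint X
  choose U hU hxU _ using fun x : X => exists_isAffineOpen_mem_and_subset (show x ∈ (⊤ : X.Opens) from trivial)
  have hξ : ∀ x, ξ ∈ U x := fun x => ((genericPoint_spec X).mem_open_set_iff (U x).2).mpr ⟨x, trivial, hxU x⟩
  let K := X.presheaf.stalk ξ
  let ρ : ∀ x, Γ(X, U x) ⟶ K := fun x => X.presheaf.germ (U x) ξ (hξ x)
  have hρ : ∀ x, Spec.map (ρ x) ≫ (hU x).fromSpec = X.fromSpecStalk ξ := fun x =>
    (hU x).fromSpecStalk_eq_fromSpecStalk (hξ x)
  have hloc : ∀ x, ∃ σ : Spec Γ(X, U x) ⟶ P, σ ≫ g = (hU x).fromSpec ∧ Spec.map (ρ x) ≫ σ = pη := by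
    intro x
    let Q := pullback g (hU x).fromSpec
    let q : Q ⟶ Spec Γ(X, U x) := pullback.snd g (hU x).fromSpec
    haveI : IsIntegralHom q := MorphismProperty.pullback_snd _ _ ‹_›
    haveI : IsAffine Q := isAffine_of_isAffineHom q
    let φ : Γ(X, U x) ⟶ Γ(Q, ⊤) := Spec.preimage (Q.isoSpec.inv ≫ q)
    have hφ : φ.hom.IsIntegral := by
      rw [← IsIntegralHom.SpecMap_iff, Spec.map_preimage]; infer_instance
    let z : Spec K ⟶ Q := pullback.lift pη (Spec.map (ρ x)) (by rw [hη, hρ])
    let ζ : Γ(Q, ⊤) ⟶ K := Spec.preimage (z ≫ Q.isoSpec.hom)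
    have hφζ : φ ≫ ζ = ρ x := by
      apply Spec.map_injective
      rw [Spec.map_comp, Spec.map_preimage, Spec.map_preimage, Category.assoc, Iso.hom_inv_id_assoc]
      exact pullback.lift_snd _ _ _
    haveI : Nonempty (U x) := ⟨⟨x, hxU x⟩⟩
    haveI : IsFractionRing Γ(X, U x) X.functionField := functionField_isFractionRing_of_isAffineOpen X (U x) (hU x)
    haveI : IsIntegrallyClosed Γ(X, U x) := (Groth.Agent.S9821.result X).1 hX (U x) (hU x)
    have halg : (algebraMap Γ(X, U x) X.functionField) = (ρ x).hom := rfl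
    have hrange : ∀ c, ∃ b, algebraMap Γ(X, U x) X.functionField b = ζ.hom c := by
      intro c
      obtain ⟨p, hp, hp0⟩ := hφ c
      have hint : IsIntegral Γ(X, U x) (ζ.hom c : X.functionField) := ⟨p, hp, by
        rw [halg, ← hφζ, CommRingCat.hom_comp]
        exact (Polynomial.hom_eval₂ p φ.hom ζ.hom c).symm.trans (by rw [hp0, map_zero])⟩
      exact IsIntegrallyClosed.isIntegral_iff.1 hint
    choose b hb using hrange
    have hinj : Function.Injective (algebraMap Γ(X, U x) X.functionField) := IsFractionRing.injective _ _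
    let ψ : Γ(Q, ⊤) →+* Γ(X, U x) :=
      { toFun := b
        map_one' := hinj (by rw [hb, map_one, map_one])
        map_mul' := fun c d => hinj (by rw [hb, map_mul, map_mul, hb, hb])
        map_zero' := hinj (by rw [hb, map_zero, map_zero])
        map_add' := fun c d => hinj (by rw [hb, map_add, map_add, hb, hb]) }
    have hψ₁ : φ ≫ CommRingCat.ofHom ψ = 𝟙 _ := CommRingCat.hom_ext (RingHom.ext fun y => hinj (by
      show algebraMap _ X.functionField (b (φ.hom y)) = algebraMap _ X.functionField y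
      rw [hb, halg, ← hφζ]; rfl))
    have hψ₂ : CommRingCat.ofHom ψ ≫ ρ x = ζ := CommRingCat.hom_ext (RingHom.ext fun c => hb c)
    refine ⟨Spec.map (CommRingCat.ofHom ψ) ≫ Q.isoSpec.inv ≫ pullback.fst _ _, ?_, ?_⟩
    · rw [Category.assoc, Category.assoc, pullback.condition, ← Category.assoc Q.isoSpec.inv,
        show Q.isoSpec.inv ≫ q = Spec.map φ from (Spec.map_preimage _).symm, ← Category.assoc, ← Spec.map_comp, hψ₁,
        Spec.map_id, Category.id_comp]
    · rw [← Category.assoc, ← Spec.map_comp, hψ₂, Spec.map_preimage, Category.assoc, Iso.hom_inv_id_assoc]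
      exact pullback.lift_fst _ _ _
  choose σ hσ hση using hloc
  let 𝒰 : X.OpenCover :=
    { I₀ := X
      X := fun x => Spec Γ(X, U x)
      f := fun x => (hU x).fromSpec
      mem₀ := (Scheme.ofArrows_mem_precoverage_iff _).2
        ⟨fun x => ⟨x, (hU x).range_fromSpec.symm.subset (hxU x)⟩, fun x => inferInstance⟩ }
  have hglue : ∀ x y, pullback.fst (𝒰.f x) (𝒰.f y) ≫ σ x = pullback.snd _ _ ≫ σ y := by
    intro x y
    let e : pullback (hU x).fromSpec (hU y).fromSpec ⟶ X := pullback.fst _ _ ≫ (hU x).fromSpec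
    haveI : IsReduced (pullback (hU x).fromSpec (hU y).fromSpec) := isReduced_of_isOpenImmersion e
    let jW : Spec K ⟶ pullback (hU x).fromSpec (hU y).fromSpec :=
      pullback.lift (Spec.map (ρ x)) (Spec.map (ρ y)) (by rw [hρ, hρ])
    have hjWe : jW ≫ e = X.fromSpecStalk ξ := by rw [← Category.assoc, pullback.lift_fst, hρ]
    haveI : IsDominant jW := ⟨dense_iff_inter_open.2 fun O hO hne => by
      have hpt : (jW ≫ e) (IsLocalRing.closedPoint K) = ξ := by rw [hjWe]; exact Scheme.fromSpecStalk_closedPoint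
      obtain ⟨o, ho, hoe⟩ : ξ ∈ e '' O :=
        ((genericPoint_spec X).mem_open_set_iff (e.isOpenEmbedding.isOpenMap O hO)).mpr
          (by obtain ⟨w, hw⟩ := hne; exact ⟨e w, trivial, w, hw, rfl⟩)
      refine ⟨jW (IsLocalRing.closedPoint K), ?_, ⟨_, rfl⟩⟩
      rw [Scheme.Hom.comp_apply] at hpt
      rw [e.isOpenEmbedding.injective (hpt.trans hoe.symm)]
      exact ho⟩
    refine ext_of_isDominant_of_isSeparated g ?_ jW ?_
    · simp only [Category.assoc, hσ]
      exact pullback.condition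
    · rw [pullback.lift_fst_assoc, pullback.lift_snd_assoc, hση, hση]
  refine ⟨𝒰.glueMorphisms σ hglue, Scheme.Cover.hom_ext 𝒰 _ _ fun x => ?_⟩
  rw [Scheme.Cover.ι_glueMorphisms_assoc, Category.comp_id]
  exact hσ x

variable {R : Type u} [CommRing R] {lam : R} {N : ℕ} (h : SekSuwa.DivCond lam N)

/-- Where `λ` is invertible, `α^{λ,N}` is bijective on points. -/
theorem bijective_alphaN (hN : 0 < N) (T : Over (Spec (CommRingCat.of R))) (hl : IsUnit (strHom T lam)) :
    Function.Bijective fun x : T ⟶ SekSuwa.GK R lam N h => x ≫ SekSuwa.alphaN R lam N h := by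
  haveI : NeZero N := ⟨hN.ne'⟩
  letI := algΓ T
  let g₁ : MonoidAlgebra R (Multiplicative (ZMod N)) := MonoidAlgebra.of R _ (Multiplicative.ofAdd 1)
  have hα : ∀ x : T ⟶ SekSuwa.GK R lam N h, ptRingHom (x ≫ SekSuwa.alphaN R lam N h) g₁ =
      1 + strHom T lam * ptRingHom x SekSuwa.AK.t := by
    intro x
    rw [SekSuwa.alphaN, ptRingHom_comp_specHom,
      show SekSuwa.alphaNHom R lam N h g₁ = 1 + lam • SekSuwa.AK.t from SekSuwa.alphaNHom_single_one R lam N h,
      map_add, map_one, Algebra.smul_def, map_mul, ptRingHom_algebraMap]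
  constructor
  · intro x y hxy
    have e := congrArg (fun z => ptRingHom z g₁) hxy
    simp only [hα] at e
    have ht : ptRingHom x SekSuwa.AK.t = ptRingHom y SekSuwa.AK.t := hl.mul_left_cancel (by linear_combination e)
    let φ : SekSuwa.AK R lam N h →ₐ[R] Γ(T.left, ⊤) := { ptRingHom x with commutes' := ptRingHom_algebraMap x }
    let ψ : SekSuwa.AK R lam N h →ₐ[R] Γ(T.left, ⊤) := { ptRingHom y with commutes' := ptRingHom_algebraMap y }
    refine ptRingHom_injective (congrArg AlgHom.toRingHom (SekSuwa.AK.algHom_ext (f := φ) (g := ψ) ht ?_))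
    have ht' : φ SekSuwa.AK.t = ψ SekSuwa.AK.t := ht
    rw [inv_eq h hN, map_pow, map_pow, map_add, map_add, map_smul, map_smul, ht', map_one, map_one]
  · intro y
    obtain ⟨li, hli⟩ := hl.exists_left_inv
    let χ : MonoidAlgebra R (Multiplicative (ZMod N)) →ₐ[R] Γ(T.left, ⊤) :=
      { ptRingHom y with commutes' := ptRingHom_algebraMap y }
    let u := ptRingHom y g₁
    have hu : u ^ N = 1 := by
      rw [← map_pow, ← map_pow]
      rw [show (Multiplicative.ofAdd (1 : ZMod N)) ^ N = 1 from Multiplicative.toAdd.injective (by simp)]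
      rw [map_one, map_one]
    let a := li * (u - 1)
    have hla : lam • a = u - 1 := by
      show strHom T lam * (li * (u - 1)) = u - 1
      rw [← _root_.mul_assoc, _root_.mul_comm _ li, hli, _root_.one_mul]
    have hc : (1 + lam • a) * u ^ (N - 1) = 1 := by
      rw [hla, add_sub_cancel, ← pow_succ', show N - 1 + 1 = N by omega, hu]
    have hP : Polynomial.aeval a (SekSuwa.psiPoly lam N h) = 0 := by
      have h1 := SekSuwa.aeval_psiPoly h a
      rw [← Algebra.smul_def lam a, hla, add_sub_cancel, hu, sub_self] at h1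
      exact (((show IsUnit (algebraMap R Γ(T.left, ⊤) lam) from hl).pow N).mul_right_eq_zero).1 (by
        rw [← map_pow]; exact h1)
    let φ : SekSuwa.AK R lam N h →ₐ[R] Γ(T.left, ⊤) :=
      Ideal.Quotient.liftₐ (SekSuwa.kerIdeal lam N h) (SekSuwa.A.lift R lam a (u ^ (N - 1)) hc) (by
        intro w hw
        obtain ⟨c, rfl⟩ := Ideal.mem_span_singleton'.mp hw
        rw [map_mul, SekSuwa.kerGen, ← Polynomial.aeval_algHom_apply, SekSuwa.A.lift_t, hP, MulZeroClass.mul_zero])
    refine ⟨ofRingHom φ.toRingHom fun r => φ.commutes r, ptRingHom_injective ?_⟩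
    let χ' : MonoidAlgebra R (Multiplicative (ZMod N)) →ₐ[R] Γ(T.left, ⊤) :=
      { ptRingHom (ofRingHom φ.toRingHom (fun r => φ.commutes r) ≫ SekSuwa.alphaN R lam N h) with
        commutes' := ptRingHom_algebraMap _ }
    refine congrArg AlgHom.toRingHom
      ((MonoidAlgebra.lift R Γ(T.left, ⊤) (Multiplicative (ZMod N))).symm.injective (MonoidHom.ext fun n => ?_) :
        χ' = χ)
    rw [show n = Multiplicative.ofAdd (1 : ZMod N) ^ n.toAdd.val from Multiplicative.toAdd.injective (by simp),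
      map_pow, map_pow]
    congr 1
    rw [MonoidAlgebra.lift_symm_apply, MonoidAlgebra.lift_symm_apply]
    show ptRingHom _ g₁ = u
    rw [hα, ptRingHom_ofRingHom]
    show 1 + strHom T lam * φ SekSuwa.AK.t = u
    rw [show φ SekSuwa.AK.t = a from SekSuwa.A.lift_t _ _ hc]
    show 1 + lam • a = u
    rw [hla, add_sub_cancel]

variable {X : Scheme.{u}} (f : X ⟶ Spec (CommRingCat.of R))

theorem bijective_bc_alphaN (hN : 0 < N) (V : Over X) (hl : IsUnit (lamOn f lam V)) :
    Function.Bijective fun x : V ⟶ Red.bc f (SekSuwa.GK R lam N h) =>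
      x ≫ (Over.pullback f).map (SekSuwa.alphaN R lam N h) := by
  let e₁ := (Over.mapPullbackAdj f).homEquiv V (SekSuwa.GK R lam N h)
  let e₂ := (Over.mapPullbackAdj f).homEquiv V (Red.diag R (ZMod N))
  have e : (fun x : V ⟶ Red.bc f (SekSuwa.GK R lam N h) => x ≫ (Over.pullback f).map (SekSuwa.alphaN R lam N h)) =
      e₂ ∘ (fun x => x ≫ SekSuwa.alphaN R lam N h) ∘ e₁.symm := funext fun x => e₂.symm.injective (by
    show e₂.symm _ = e₂.symm (e₂ _)
    rw [Equiv.symm_apply_apply]
    exact Adjunction.homEquiv_naturality_right_symm _ _ _)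
  rw [e]
  exact e₂.bijective.comp ((bijective_alphaN h hN _ hl).comp e₁.symm.bijective)

/-- A map of torsors along a group map bijective on the points lifts sections. -/
theorem exists_lift_section {G G' P P' U : Over X} [GrpObj G] [GrpObj G'] (α : G ⟶ G') [IsMonHom α]
    {a : AlgGrp.Action G P} (hP : NonAbH1.IsTorsorFor Scheme.fppfPrecoverage a) {a' : AlgGrp.Action G' P'}
    (hP' : NonAbH1.IsPseudoTorsorSch a') (hpush : NonAbH1.IsPushforwardAlongSch α a a') (s : 𝟙_ (Over X) ⟶ P')
    (hbij : ∀ (W : Over X), (W ⟶ U) → Function.Bijective fun x : W ⟶ G => x ≫ α) : Nonempty (U ⟶ P) := by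
  obtain ⟨φ, hφ⟩ := hpush
  have hφ' : ∀ (W : Over X) (g : W ⟶ G) (p : W ⟶ P),
      (lift g p ≫ a.act) ≫ φ = lift (g ≫ α) (p ≫ φ) ≫ a'.act := fun W g p => by
    rw [Category.assoc, hφ, comp_lift_assoc, lift_fst_assoc, lift_snd_assoc]
  let π : P ⟶ 𝟙_ (Over X) := toUnit P
  have eπ : π.left = P.hom := (Category.comp_id _).symm.trans (Over.w π)
  have hπ : HasLocSec π := hasLocSec_of_isLocallyTrivialFor π (by rw [eπ]; exact hP.2)
  have hsnd : HasLocSec (snd P U) := hπ.of_isPullback (a := fst P U) (b := snd P U) (y := toUnit U)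
    (isPullback_of_points (toUnit_unique _ _) fun T x y _ =>
      ⟨lift x y, ⟨lift_fst _ _, lift_snd _ _⟩, fun p hp => by rw [lift_fst_snd_self p, hp.1, hp.2]⟩)
  obtain ⟨k, hk⟩ := Groth.Agent.SchTorsor.exists_div hP' (toUnit (P ⊗ U) ≫ s) (fst P U ≫ φ)
  obtain ⟨g, hg⟩ := (hbij (P ⊗ U) (snd P U)).2 k
  simp only at hg
  let y : P ⊗ U ⟶ P := lift g (fst P U) ≫ a.act
  have hy : y ≫ φ = toUnit (P ⊗ U) ≫ s := by rw [hφ', hg, hk]
  obtain ⟨σ, -, -⟩ := hsnd.existsUnique_desc y fun T x x' hxx => by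
    obtain ⟨d, hd⟩ := Groth.Agent.SchTorsor.exists_div hP.1 (x ≫ y) (x' ≫ y)
    have e1 : (x ≫ y) ≫ φ = (x' ≫ y) ≫ φ := by
      rw [Category.assoc x y φ, Category.assoc x' y φ, hy, ← Category.assoc, ← Category.assoc,
        toUnit_unique (x ≫ toUnit _) (x' ≫ toUnit _)]
    rw [← hd, hφ'] at e1
    have e2 : d ≫ α = (1 : T ⟶ G) ≫ α := by
      rw [MonObj.one_comp]
      exact Groth.Agent.SchTorsor.act_free hP' (e1.trans (Groth.Agent.SchTorsor.one_act_pt _ _).symm)
    rw [← hd, (hbij T (x ≫ snd P U)).1 e2, Groth.Agent.SchTorsor.one_act_pt]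
  exact ⟨σ⟩

/-- A torsor under `G_{λ,N}` over a normal scheme with trivial image in `μ_N` is trivial. -/
theorem hasSection [IsDomain R] [IsIntegral X] (hX : Pi1.IsNormalScheme X) [Flat f] (hN : 0 < N) (hlam : lam ≠ 0)
    {P : Over X} {a : AlgGrp.Action (Red.bc f (SekSuwa.GK R lam N h)) P}
    (hP : NonAbH1.IsTorsorFor Scheme.fppfPrecoverage a)
    {P' : Over X} {a' : AlgGrp.Action (Red.bc f (Red.diag R (ZMod N))) P'}
    (hP' : NonAbH1.IsPseudoTorsorSch a')
    (hpush : NonAbH1.IsPushforwardAlongSch ((Over.pullback f).map (SekSuwa.alphaN R lam N h)) a a')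
    (htriv : NonAbH1.HasSectionOver P' (𝟙 X)) : NonAbH1.HasSectionOver P (𝟙 X) := by
  haveI : Module.Finite R (SekSuwa.AK R lam N h) := by
    obtain ⟨b, -⟩ := exists_basis_pow h hN
    exact Module.Finite.of_basis b
  haveI : IsFinite (SekSuwa.GK R lam N h).hom :=
    (IsFinite.SpecMap_iff _).mpr (RingHom.finite_algebraMap.mpr inferInstance)
  haveI : IsFinite (Red.bc f (SekSuwa.GK R lam N h)).hom := MorphismProperty.pullback_snd _ _ ‹_›
  have hPf : NonAbH1.IsTorsorFor Scheme.fpqcPrecoverage a :=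
    ⟨hP.1, hP.2.choose, Scheme.fppfPrecoverage_le_fpqcPrecoverage _ hP.2.choose_spec.1, hP.2.choose_spec.2⟩
  haveI : MorphismProperty.DescendsAlong @IsFinite (@Surjective ⊓ @Flat ⊓ @QuasiCompact : MorphismProperty Scheme.{u}) :=
    Groth.Agent.EtFound.fpqc_isFinite
  haveI : IsFinite P.hom := Groth.Agent.SchTorsor.torsor_property @IsFinite hPf ‹_›
  let U : Over X := Over.mk (X.fromSpecStalk (genericPoint X))
  haveI : Flat (X.fromSpecStalk (genericPoint X)) := by
    obtain ⟨V, hV, hxV, -⟩ := exists_isAffineOpen_mem_and_subset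
      (show genericPoint X ∈ (⊤ : X.Opens) from trivial)
    rw [← hV.fromSpecStalk_eq_fromSpecStalk hxV, IsAffineOpen.fromSpecStalk]
    have : Flat (Spec.map (X.presheaf.germ V (genericPoint X) hxV)) := by
      rw [HasRingHomProperty.Spec_iff (P := @Flat)]
      let : Algebra Γ(X, V) (X.presheaf.stalk (genericPoint X)) := (X.presheaf.germ V (genericPoint X) hxV).hom.toAlgebra
      have := hV.isLocalization_stalk ⟨genericPoint X, hxV⟩
      exact IsLocalization.flat (X.presheaf.stalk (genericPoint X))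
        (hV.primeIdealOf ⟨genericPoint X, hxV⟩).asIdeal.primeCompl
    infer_instance
  haveI : Flat (U.hom ≫ f) := inferInstanceAs (Flat (X.fromSpecStalk (genericPoint X) ≫ f))
  let e : Γ(U.left, ⊤) ≃+* X.functionField :=
    (Scheme.ΓSpecIso (X.presheaf.stalk (genericPoint X))).commRingCatIsoToRingEquiv
  have hU : IsUnit (lamOn f lam U) := by
    refine (isUnit_map_iff e _).1 (isUnit_iff_ne_zero.2 fun h0 => ?_)
    have h1 : (1 : Γ(U.left, ⊤)) = 0 := eq_zero_of_lamOn_mul f hlam (V := U) (by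
      rw [show lamOn f lam U = 0 from e.injective (by rw [h0, map_zero]), MulZeroClass.zero_mul])
    exact one_ne_zero (α := X.functionField) (by rw [← map_one e, h1, map_zero])
  obtain ⟨s, hs⟩ := htriv
  obtain ⟨σ⟩ := exists_lift_section ((Over.pullback f).map (SekSuwa.alphaN R lam N h)) hP hP' hpush
    (Over.homMk s hs) (U := U) fun W w => bijective_bc_alphaN h f hN W (by
      rw [lamOn_comp f w]; exact hU.map _)
  exact exists_section_of_generic hX P.hom σ.left (Over.w σ)

end Groth.Agent.SekSuwaLib.GKNormal
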